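import Groth.Agent.L05.CanonBC.RegBase
import Groth.Agent.L13.Canon.Indep
import Groth.Agent.S8657
import Groth.Agent.S8905
import Groth.Agent.S5003
import Groth.Agent.L09.Stack.ImmNoetherian

/-!
# Constant codimension of regular immersions
-/

set_option autoImplicit false
set_option linter.style.haveILetI false
set_option backward.isDefEq.respectTransparency false
set_option backward.isDefEq.respectTransparency.types false

universe u

open CategoryTheory CategoryTheory.Limits AlgebraicGeometry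

noncomputable section

namespace Groth.L05.CanonBC

variable {X Z : Scheme.{u}}

/-- Codimension on an open subscheme of the source, read off the charts of the ambient immersion. -/
theorem ofCodim_opens_comp (i : X ⟶ Z) [IsImmersion i] (O : X.Opens) {r : ℕ}
    (h : ∀ z ∈ O, ∃ U : Z.affineOpens, i z ∈ U.1 ∧ IsClosedImmersion (i ∣_ U.1) ∧
      ∃ rs : List Γ(Z, U.1), rs.length = r ∧ RegImm.Kind.regular.Seq Γ(Z, U.1) rs ∧
        RingHom.ker (i.app U.1).hom = Ideal.ofList rs) :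
    RegImm.IsRegularImmersionOfCodim .regular r (O.ι ≫ i) := by
  refine ⟨inferInstance, fun w => ?_⟩
  have hw : O.ι w ∈ O := by
    have := Set.mem_range_self (f := O.ι) w
    rwa [Scheme.Opens.range_ι] at this
  obtain ⟨⟨U, hU⟩, hzU, hcl, rs, hlen, hrs, hker⟩ := h _ hw
  obtain ⟨W, hW, hWe⟩ := i.isEmbedding.isInducing.isOpen_iff.1 O.2
  obtain ⟨_, ⟨V, hV, rfl⟩, hzV, hle⟩ := Z.isBasis_affineOpens.exists_subset_of_mem_open
    (show i (O.ι w) ∈ W ∩ (U : Set Z) from ⟨hWe.ge hw, hzU⟩) (hW.inter U.2)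
  change Z.Opens at V
  replace hV : IsAffineOpen V := hV
  have hVU : V ≤ U := fun y hy => (hle hy).2
  have hVO : i ⁻¹ᵁ V ≤ O := fun y hy => hWe.le (show i y ∈ W from (hle hy).1)
  obtain ⟨hclV, hk⟩ := Groth.L07.RegImmAt.ker_restrict hU hV hVU hcl
  haveI : IsIso (O.ι.app (i ⁻¹ᵁ V)) := O.ι.isIso_app _ (by rw [Scheme.Opens.opensRange_ι]; exact hVO)
  haveI : IsIso (O.ι ∣_ (i ⁻¹ᵁ V)) := by
    refine isIso_of_isOpenImmersion_of_opensRange_eq_top _ (TopologicalSpace.Opens.ext ?_)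
    refine Set.eq_univ_of_forall fun y => ?_
    refine ⟨⟨⟨y.1, hVO y.2⟩, y.2⟩, Subtype.ext ?_⟩
    rw [morphismRestrict_base_coe]
    rfl
  let ρ := (Z.presheaf.map (homOfLE hVU).op).hom
  have hρ : ρ.Flat := by
    have := Flat.flat_appLE (𝟙 Z) hU hV hVU
    simpa [Scheme.Hom.appLE] using this
  have hkV : RingHom.ker ((O.ι ≫ i).app V).hom = Ideal.ofList (rs.map ρ) := by
    have hcomp : ((O.ι ≫ i).app V).hom = (O.ι.app (i ⁻¹ᵁ V)).hom.comp (i.app V).hom := by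
      rw [Scheme.Hom.comp_app]; rfl
    rw [hcomp, RingHom.ker_comp_of_injective _ (ConcreteCategory.bijective_of_isIso (O.ι.app (i ⁻¹ᵁ V))).1, hk, hker,
      Ideal.map_ofList]
  refine ⟨⟨V, hV⟩, hzV, ?_, rs.map ρ, by rw [List.length_map, hlen],
    Groth.L03.RegImmFlat.seq_map ρ hρ _ rs hrs ?_, hkV⟩
  · rw [morphismRestrict_comp]
    infer_instance
  · haveI : Nonempty ((O.ι ≫ i) ⁻¹ᵁ V).toScheme := ⟨⟨w, hzV⟩⟩
    haveI := Scheme.component_nontrivial O.toScheme ((O.ι ≫ i) ⁻¹ᵁ V)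
    exact fun h => RingHom.ker_ne_top _ (hkV.trans h)

/-- Two lengths of charts at one point agree. -/
theorem length_eq (i : X ⟶ Z) [IsImmersion i] [IsLocallyNoetherian Z] {r r' : ℕ} (O : X.Opens)
    (hne : (O : Set X).Nonempty)
    (h : RegImm.IsRegularImmersionOfCodim .regular r (O.ι ≫ i))
    (h' : RegImm.IsRegularImmersionOfCodim .regular r' (O.ι ≫ i)) : r = r' := by
  obtain ⟨x, hx⟩ := hne
  haveI := h.1
  haveI := Groth.L09.Stack.quasiCompact_of_isImmersion (O.ι ≫ i)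
  obtain ⟨U, hU, ⟨e⟩⟩ := Groth.L13.Canon.isFinLocFreeOfRank_conormal (O.ι ≫ i) h (⟨x, hx⟩ : O.toScheme)
  obtain ⟨V, hV, ⟨e'⟩⟩ := Groth.L13.Canon.isFinLocFreeOfRank_conormal (O.ι ≫ i) h' (⟨x, hx⟩ : O.toScheme)
  exact Groth.L18.KRRAmple.rank_unique hU hV e e'

/-- A regular immersion of an irreducible scheme has constant codimension. -/
theorem exists_ofCodim_of_irreducible (i : X ⟶ Z) [IsLocallyNoetherian Z] [IrreducibleSpace X]
    (hi : RegImm.IsRegularImmersion .regular i) : ∃ r, RegImm.IsRegularImmersionOfCodim .regular r i := by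
  haveI := hi.1
  obtain ⟨z₀⟩ := (inferInstance : Nonempty X)
  obtain ⟨U₀, hz₀, hcl₀, rs₀, hrs₀, hker₀⟩ := hi.2 z₀
  refine ⟨rs₀.length, hi.1, fun z => ?_⟩
  obtain ⟨U, hz, hcl, rs, hrs, hker⟩ := hi.2 z
  refine ⟨U, hz, hcl, rs, ?_, hrs, hker⟩
  let O : X.Opens := i ⁻¹ᵁ U.1 ⊓ i ⁻¹ᵁ U₀.1
  have hne : (O : Set X).Nonempty :=
    PreirreducibleSpace.isPreirreducible_univ _ _ (i ⁻¹ᵁ U.1).2 (i ⁻¹ᵁ U₀.1).2 ⟨z, trivial, hz⟩ ⟨z₀, trivial, hz₀⟩
      |>.imp fun _ h => h.2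
  exact length_eq i O hne (ofCodim_opens_comp i O fun y hy => ⟨U, hy.1, hcl, rs, rfl, hrs, hker⟩)
    (ofCodim_opens_comp i O fun y hy => ⟨U₀, hy.2, hcl₀, rs₀, rfl, hrs₀, hker₀⟩)

/-- A second lifting of a factorised morphism into a smooth scheme is regular of constant codimension. -/
theorem exists_ofCodim_of_factor {Y Z₁ P : Scheme.{u}} [IsLocallyNoetherian Y] (i₁ : X ⟶ Z₁) (g₁ : Z₁ ⟶ Y)
    [QuasiSeparated g₁] {c n₁ n : ℕ} [SmoothOfRelativeDimension n₁ g₁]
    (hi₁ : RegImm.IsRegularImmersionOfCodim .regular c i₁)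
    (k : X ⟶ P) (p : P ⟶ Y) [IsImmersion k] [SmoothOfRelativeDimension n p] [QuasiSeparated p]
    (h : k ≫ p = i₁ ≫ g₁) : ∃ d, RegImm.IsRegularImmersionOfCodim .regular d k := by
  rcases isEmpty_or_nonempty X with hX | hX
  · exact ⟨0, inferInstance, fun z => hX.elim z⟩
  haveI := hi₁.1
  haveI := smoothOfRelativeDimension_isStableUnderBaseChange (n := n)
  haveI := smoothOfRelativeDimension_isStableUnderBaseChange (n := n₁)
  haveI : Smooth g₁ := SmoothOfRelativeDimension.smooth n₁ g₁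
  haveI : Smooth p := SmoothOfRelativeDimension.smooth n p
  haveI : IsLocallyNoetherian Z₁ := LocallyOfFiniteType.isLocallyNoetherian g₁
  haveI : IsLocallyNoetherian P := LocallyOfFiniteType.isLocallyNoetherian p
  haveI : IsLocallyNoetherian X := LocallyOfFiniteType.isLocallyNoetherian k
  let T := pullback p g₁
  let l : X ⟶ T := pullback.lift k i₁ h
  have hl₁ : l ≫ pullback.fst p g₁ = k := pullback.lift_fst _ _ _
  have hl₂ : l ≫ pullback.snd p g₁ = i₁ := pullback.lift_snd _ _ _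
  haveI : IsImmersion (l ≫ pullback.fst p g₁) := hl₁.symm ▸ inferInstance
  haveI : IsImmersion l := IsImmersion.of_comp l (pullback.fst p g₁)
  haveI : Smooth (pullback.fst p g₁) := MorphismProperty.pullback_fst (P := @Smooth) _ _ inferInstance
  haveI : Smooth (pullback.snd p g₁) := MorphismProperty.pullback_snd (P := @Smooth) _ _ inferInstance
  have hk : RegImm.IsRegularImmersion .regular k := by
    have h1 : RegImm.IsRegularImmersion .regular i₁ :=
      ⟨hi₁.1, fun z => by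
        obtain ⟨U, hz, hcl, rs, -, hrs, hker⟩ := hi₁.2 z
        exact ⟨U, hz, hcl, rs, hrs, hker⟩⟩
    have h2 := (Groth.Agent.S8657.result i₁ l (pullback.snd p g₁) hl₂).1 ((Groth.Agent.S8905.result i₁).1 h1)
    have h3 := (Groth.Agent.S8657.result k l (pullback.fst p g₁) hl₁).2 h2
    exact (Groth.Agent.S5003.result k).2 ((Groth.Agent.S8905.result k).2.2 ((Groth.Agent.S8905.result k).2.1 h3))
  -- at every chart the length is `c + n - n₁`
  refine ⟨c + n - n₁, hk.1, fun z => ?_⟩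
  obtain ⟨U, hz, hcl, rs, hrs, hker⟩ := hk.2 z
  refine ⟨U, hz, hcl, rs, ?_, hrs, hker⟩
  let O : X.Opens := k ⁻¹ᵁ U.1
  have hkO := ofCodim_opens_comp k O fun y hy => ⟨U, hy, hcl, rs, rfl, hrs, hker⟩
  have hiO := ofCodim_opens_comp i₁ O fun y _ => hi₁.2 y
  haveI := hkO.1; haveI := hiO.1
  haveI := Groth.L09.Stack.quasiCompact_of_isImmersion (O.ι ≫ k)
  haveI := Groth.L09.Stack.quasiCompact_of_isImmersion (O.ι ≫ i₁)
  haveI : IsImmersion (O.ι ≫ l) := inferInstance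
  haveI : IsLocallyNoetherian T := LocallyOfFiniteType.isLocallyNoetherian (pullback.fst p g₁)
  haveI := Groth.L09.Stack.quasiCompact_of_isImmersion (O.ι ≫ l)
  have hCk := Groth.L13.Canon.isFinLocFreeOfRank_conormal (O.ι ≫ k) hkO
  have hCi := Groth.L13.Canon.isFinLocFreeOfRank_conormal (O.ι ≫ i₁) hiO
  obtain ⟨Dk, hDk, -⟩ := Groth.L22.Adjunction.exists_isExtPow hCk
  obtain ⟨Di, hDi, -⟩ := Groth.L22.Adjunction.exists_isExtPow hCi
  obtain ⟨Ω₁, hΩ₁, -⟩ := Groth.L22.Adjunction.exists_isExtPow (Groth.L02.Canon.isFinLocFreeOfRank_omega (f := g₁) n₁)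
  obtain ⟨Ωp, hΩp, -⟩ := Groth.L22.Adjunction.exists_isExtPow (Groth.L02.Canon.isFinLocFreeOfRank_omega (f := p) n)
  obtain ⟨hF, -⟩ := Groth.L13.Canon.nonempty_det_lift p g₁ (pullback.fst p g₁) (pullback.snd p g₁)
    (IsPullback.of_hasPullback p g₁) (O.ι ≫ l) (O.ι ≫ k) (O.ι ≫ i₁) (by rw [Category.assoc, hl₁])
    (by rw [Category.assoc, hl₂]) hCk hDk hΩ₁
  obtain ⟨hF', -⟩ := Groth.L13.Canon.nonempty_det_lift g₁ p (pullback.snd p g₁) (pullback.fst p g₁)
    (IsPullback.of_hasPullback p g₁).flip (O.ι ≫ l) (O.ι ≫ i₁) (O.ι ≫ k) (by rw [Category.assoc, hl₂])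
    (by rw [Category.assoc, hl₁]) hCi hDi hΩp
  obtain ⟨V, hV, ⟨e⟩⟩ := hF (⟨z, hz⟩ : O.toScheme)
  obtain ⟨V', hV', ⟨e'⟩⟩ := hF' (⟨z, hz⟩ : O.toScheme)
  have := Groth.L18.KRRAmple.rank_unique hV hV' e e'
  omega

end Groth.L05.CanonBC
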