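import Groth.Agent.L05.CanonBC.RegBase
import Groth.Agent.L13.Canon.Indep
import Groth.Agent.L12.RR.Def.Base
import Groth.Agent.L05.EulerDiv.PowerFibre
import Groth.Agent.S9371
import Groth.Agent.S9372

/-!
# Base change of canonical sheaves
-/

set_option autoImplicit false
set_option linter.style.haveILetI false
set_option backward.isDefEq.respectTransparency false
set_option backward.isDefEq.respectTransparency.types false

universe u

open CategoryTheory CategoryTheory.Limits AlgebraicGeometry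

noncomputable section

namespace Groth.L05.CanonBC

open Groth.L22.CurveDeg.Det Groth.L22.Adjunction
open Groth.L00.Tensor (tensorIso)

variable {X Y X' Y' : Scheme.{u}} {f : X ⟶ Y} {f' : X' ⟶ Y'} {gX : X' ⟶ X} {u : Y' ⟶ Y}

/-- A canonical sheaf pulls back to a canonical sheaf when the morphism or the base change is flat. -/
theorem isCanonical_baseChange [IsLocallyNoetherian Y] (hc : IsPullback gX f' f u) (hfl : Flat f ∨ Flat u)
    {ω : X.Modules} (hω : Canon.IsCanonical f ω) :
    Canon.IsCanonical f' ((Scheme.Modules.pullback gX).obj ω) := by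
  obtain ⟨Z, i, g, c, n, hig, hi, hg, hqi, hqg, DC, DΩ, hDC, hDΩ, ⟨e⟩⟩ := hω
  haveI := hi.1; haveI := hqi; haveI := hqg; haveI := hg
  haveI := smoothOfRelativeDimension_isStableUnderBaseChange (n := n)
  subst hig
  let gZ := pullback.fst g u
  let g' := pullback.snd g u
  let i' : X' ⟶ pullback g u := pullback.lift (gX ≫ i) f' (by rw [Category.assoc, hc.w])
  have hi'g : i' ≫ g' = f' := pullback.lift_snd _ _ _
  have hi'Z : i' ≫ gZ = gX ≫ i := pullback.lift_fst _ _ _
  have hsq : IsPullback gX i' i gZ := by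
    refine IsPullback.of_bot ?_ hi'Z.symm (IsPullback.of_hasPullback g u)
    rw [hi'g]
    exact hc
  haveI : SmoothOfRelativeDimension n g' :=
    MorphismProperty.of_isPullback (P := @SmoothOfRelativeDimension n) (IsPullback.of_hasPullback g u) inferInstance
  haveI : QuasiSeparated g' :=
    MorphismProperty.of_isPullback (P := @QuasiSeparated) (IsPullback.of_hasPullback g u) inferInstance
  haveI : QuasiCompact i' := MorphismProperty.of_isPullback (P := @QuasiCompact) hsq inferInstance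
  haveI : Smooth g := SmoothOfRelativeDimension.smooth n g
  haveI : IsLocallyNoetherian Z := LocallyOfFiniteType.isLocallyNoetherian g
  have hi' : RegImm.IsRegularImmersionOfCodim .regular c i' := by
    rcases hfl with hf | hu
    · haveI := hf
      exact ofCodim_baseChange_rel (IsPullback.of_hasPullback g u) hsq hi
    · haveI := hu
      exact ofCodim_baseChange_flat (IsPullback.of_hasPullback g u) hsq hi
  haveI := hi'.1
  have hC := Groth.L13.Canon.isFinLocFreeOfRank_conormal i hi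
  have hC' := Groth.L13.Canon.isFinLocFreeOfRank_conormal i' hi'
  obtain ⟨φ, hφ, -⟩ := Groth.Agent.S9371.result i' i gZ gX hsq.w
  haveI := (Groth.Agent.S9372.result i' i gZ gX hsq.flip φ hφ).1
  haveI := Groth.L12.RR.isIso_of_epi_rank φ (Groth.L12.StabLimit.isFinLocFreeOfRank_pullback gX hC) hC'
  have hd := Groth.L19.OmegaSh.isUniversal_dOmega (f := g)
  have hd' := Groth.L19.OmegaSh.isUniversal_dOmega (f := g')
  obtain ⟨b, hb, -⟩ := Groth.L19.OmegaSh.existsUnique_diffCompat gZ u
    (IsPullback.of_hasPullback g u).w.symm hd (OmegaSh.dOmega g')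
  haveI := Groth.Agent.S9386.result g u gZ g' (IsPullback.of_hasPullback g u) _ _ hd _ _ hd' b hb
  have hΩ := Groth.L02.Canon.isFinLocFreeOfRank_omega (f := g) n
  have hΩ' := Groth.L02.Canon.isFinLocFreeOfRank_omega (f := g') n
  obtain ⟨DC', hDC', -⟩ := exists_isExtPow hC'
  obtain ⟨DΩ', hDΩ', -⟩ := exists_isExtPow hΩ'
  obtain ⟨a⟩ := nonempty_det_pullback gX hC hDC hC' hDC' (asIso φ)
  obtain ⟨o⟩ := nonempty_det_pullback gZ hΩ hDΩ hΩ' hDΩ' (asIso b)
  refine ⟨pullback g u, i', g', c, n, hi'g, hi', inferInstance, inferInstance, inferInstance, DC', DΩ', hDC', hDΩ', ⟨?_⟩⟩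
  exact tensorIso (Iso.refl _) a.symm ≪≫ Groth.L29.DC.PullTensor.pullTensor gX ω DC ≪≫
    (Scheme.Modules.pullback gX).mapIso e ≪≫ (Scheme.Modules.pullbackComp gX i).app DΩ ≪≫
    (Scheme.Modules.pullbackCongr hi'Z.symm).app DΩ ≪≫ ((Scheme.Modules.pullbackComp i' gZ).app DΩ).symm ≪≫
    (Scheme.Modules.pullback i').mapIso o

/-- Two canonical sheaves of the same morphism are isomorphic. -/
theorem nonempty_iso_of_isCanonical {ω₁ ω₂ : X.Modules} (h₁ : Canon.IsCanonical f ω₁)
    (h₂ : Canon.IsCanonical f ω₂) : Nonempty (ω₁ ≅ ω₂) := by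
  obtain ⟨Z₁, i₁, g₁, c₁, n₁, e₁, hi₁, hg₁, hq₁, hs₁, v₁⟩ := h₁
  obtain ⟨Z₂, i₂, g₂, c₂, n₂, e₂, hi₂, hg₂, hq₂, hs₂, v₂⟩ := h₂
  haveI := hq₁; haveI := hq₂; haveI := hs₁; haveI := hs₂; haveI := hg₁; haveI := hg₂
  exact Groth.L13.Canon.nonempty_iso_of_isCanonicalVia i₁ g₁ i₂ g₂ (e₁.trans e₂.symm) hi₁ hi₂ v₁ v₂

end Groth.L05.CanonBC
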