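import Groth.Agent.L05.CanonBC.Codim
import Groth.Agent.L05.CanonBC.Main
import Groth.Agent.L12.Kvb.Lambda
import Groth.Agent.L12.ExtSh.Unique

/-!
# Canonical modules on smooth open subschemes
-/

set_option autoImplicit false
set_option linter.style.haveILetI false
set_option backward.isDefEq.respectTransparency false
set_option backward.isDefEq.respectTransparency.types false

universe u

open CategoryTheory CategoryTheory.Limits AlgebraicGeometry

noncomputable section

namespace Groth.L05.CanonBC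

open Groth.L22.CurveDeg.Det Groth.L22.Adjunction
open Groth.L00.Tensor (tensorIso tensorAssoc tensorComm tensorUnitRight tensorUnitLeft)

variable {X Y : Scheme.{u}} {f : X ⟶ Y}

/-- The identity is a regular immersion of codimension zero. -/
theorem ofCodim_id (X : Scheme.{u}) : RegImm.IsRegularImmersionOfCodim .regular 0 (𝟙 X) := by
  refine ⟨inferInstance, fun z => ?_⟩
  obtain ⟨_, ⟨U, hU, rfl⟩, hzU, -⟩ := X.isBasis_affineOpens.exists_subset_of_mem_open (Set.mem_univ z) isOpen_univ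
  change X.Opens at U
  replace hU : IsAffineOpen U := hU
  refine ⟨⟨U, hU⟩, hzU, inferInstance, [], rfl, ⟨RingTheory.Sequence.IsWeaklyRegular.nil _ _, ?_⟩, ?_⟩
  · haveI : Nonempty U.toScheme := ⟨⟨z, hzU⟩⟩
    haveI := Scheme.component_nontrivial X U
    simp
  · rw [Ideal.ofList_nil]
    ext a
    simp
    rfl

/-- A canonical sheaf restricts to a canonical sheaf of an open subscheme. -/
theorem isCanonical_restrict [IsLocallyNoetherian Y] {ω : X.Modules} (hω : Canon.IsCanonical f ω) (U : X.Opens) :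
    Canon.IsCanonical (U.ι ≫ f) ((Scheme.Modules.pullback U.ι).obj ω) := by
  obtain ⟨Z, i, g, c, n, hig, hi, hg, hqi, hqg, DC, DΩ, hDC, hDΩ, ⟨e⟩⟩ := hω
  haveI := hi.1; haveI := hqi; haveI := hqg; haveI := hg
  haveI : Smooth g := SmoothOfRelativeDimension.smooth n g
  haveI : IsLocallyNoetherian Z := LocallyOfFiniteType.isLocallyNoetherian g
  subst hig
  obtain ⟨W₀, hW₀, hW₀e⟩ := i.isEmbedding.isInducing.isOpen_iff.1 U.2
  let W : Z.Opens := ⟨W₀, hW₀⟩
  obtain rfl : U = i ⁻¹ᵁ W := TopologicalSpace.Opens.ext hW₀e.symm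
  let U : X.Opens := i ⁻¹ᵁ W
  have hiU : RegImm.IsRegularImmersionOfCodim .regular c (U.ι ≫ i) := ofCodim_opens_comp i U fun z _ => hi.2 z
  haveI := hiU.1
  haveI := Groth.L09.Stack.quasiCompact_of_isImmersion (U.ι ≫ i)
  haveI : IsImmersion (i ∣_ W) := inferInstance
  haveI : QuasiCompact (i ∣_ W) := inferInstance
  have hC := Groth.L13.Canon.isFinLocFreeOfRank_conormal i hi
  have hC' := Groth.L13.Canon.isFinLocFreeOfRank_conormal (U.ι ≫ i) hiU
  obtain ⟨DC', hDC', -⟩ := exists_isExtPow hC'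
  obtain ⟨φ, hφ, -⟩ := Groth.Agent.S9371.result (i ∣_ W) i W.ι U.ι (morphismRestrict_ι i W).symm
  haveI := (Groth.Agent.S9372.result (i ∣_ W) i W.ι U.ι (isPullback_morphismRestrict i W) φ hφ).2 inferInstance
  obtain ⟨θ⟩ := Groth.L13.Canon.nonempty_conormal_iso_of_comp (i ∣_ W) W.ι (U.ι ≫ i) (morphismRestrict_ι i W)
  obtain ⟨a⟩ := nonempty_det_pullback U.ι hC hDC hC' hDC' (asIso φ ≪≫ θ.symm)
  refine ⟨Z, U.ι ≫ i, g, c, n, Category.assoc _ _ _, hiU, inferInstance, inferInstance, inferInstance,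
    DC', DΩ, hDC', hDΩ, ⟨?_⟩⟩
  exact tensorIso (Iso.refl _) a.symm ≪≫ Groth.L29.DC.PullTensor.pullTensor U.ι ω DC ≪≫
    (Scheme.Modules.pullback U.ι).mapIso e ≪≫ (Scheme.Modules.pullbackComp U.ι i).app DΩ

/-- A canonical sheaf of a smooth morphism is the top exterior power of the differentials. -/
theorem isTopDiff_of_smooth {d : ℕ} [SmoothOfRelativeDimension d f] [QuasiSeparated f]
    {ω : X.Modules} (hω : Canon.IsCanonical f ω) : Canon.IsTopDiff f d ω := by
  obtain ⟨D, hD, -⟩ := exists_isExtPow (Groth.L02.Canon.isFinLocFreeOfRank_omega (f := f) d)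
  have hcan : Canon.IsCanonical f D := ⟨X, 𝟙 X, f, 0, d, Category.id_comp f, ofCodim_id X, inferInstance, inferInstance,
    inferInstance, Coh.structureModule X, D, Groth.L12.Kvb.isExtPow_zero _, hD,
    ⟨tensorUnitRight D ≪≫ ((Scheme.Modules.pullbackId X).app D).symm⟩⟩
  obtain ⟨e⟩ := nonempty_iso_of_isCanonical hω hcan
  exact Groth.L12.ExtSh.isExtPow_of_iso e.symm hD

end Groth.L05.CanonBC
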