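import Groth.Prelude.Def_ArSurf
import Groth.Prelude.Def_Neron
import Groth.Agent.L17.Strat.ProjSq
import Groth.Agent.L05.PtSeq.DomData
import Groth.Agent.L18.ExtendCodimOne
import Groth.Agent.L15.CohFlat

/-!
# Base change of arithmetic surfaces
-/

set_option autoImplicit false
set_option linter.style.haveILetI false
set_option backward.isDefEq.respectTransparency false
set_option backward.isDefEq.respectTransparency.types false

universe u

open CategoryTheory CategoryTheory.Limits AlgebraicGeometry

noncomputable section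

namespace Groth.L05.CanonBC

/-- Two-dimensionality passes to `X'` when stalk dimensions agree on a set of specialisations. -/
theorem dim_eq_two {X X' : Scheme.{u}} [IsLocallyNoetherian X] [IsLocallyNoetherian X'] [IsReduced X] [IsReduced X'] (gX : X' ⟶ X) (S : Set X')
    (hdim : topologicalKrullDim X = 2) (hspec : ∀ z, ∃ w ∈ S, z ⤳ w)
    (heq : ∀ w ∈ S, ringKrullDim (X'.presheaf.stalk w) = ringKrullDim (X.presheaf.stalk (gX w)))
    (hlift : ∀ x, ∃ w ∈ S, x ⤳ gX w) : topologicalKrullDim X' = 2 := by
  refine le_antisymm (Groth.L05.PtSeq.dim_le_of_stalks fun z => ?_) (hdim.ge.trans ?_)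
  · obtain ⟨w, hw, hzw⟩ := hspec z
    exact ((Groth.L18.Codim1.ringKrullDim_stalk_le_of_specializes hzw).trans_eq (heq w hw)).trans
      ((Groth.L15.CohFlat.ringKrullDim_stalk_le _).trans hdim.le)
  · refine Groth.L05.PtSeq.dim_le_of_stalks fun x => ?_
    obtain ⟨w, hw, hxw⟩ := hlift x
    exact ((Groth.L18.Codim1.ringKrullDim_stalk_le_of_specializes hxw).trans_eq (heq w hw).symm).trans
      (Groth.L15.CohFlat.ringKrullDim_stalk_le _)

/-- A regular integral two-dimensional base change of an arithmetic surface is an arithmetic surface. -/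
theorem arith_bc {R R' : Type u} [CommRing R] [IsDomain R] [CommRing R'] [IsDomain R']
    {X : Over (Spec (CommRingCat.of R))} {X' : Over (Spec (CommRingCat.of R'))} (gX : X'.left ⟶ X.left)
    {φ : CommRingCat.of R ⟶ CommRingCat.of R'} (hpb : IsPullback gX X'.hom X.hom (Spec.map φ))
    (hX : ArSurf.IsArithSurface R X) [hint : IsIntegral X'.left]
    (hreg : ∀ y : X'.left, IsRegularLocalRing (X'.left.presheaf.stalk y)) (hdim : topologicalKrullDim X'.left = 2) :
    ArSurf.IsArithSurface R' X' := by
  obtain ⟨-, -, -, hfl, n, i, hi, hiX⟩ := hX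
  refine ⟨hreg, hint, hdim, MorphismProperty.of_isPullback (P := @Flat) hpb hfl, n,
    (Groth.L17.Strat.isPullback_projMap n (Spec.map φ)).lift (gX ≫ i) X'.hom
      (by rw [Category.assoc, hiX, hpb.w]), ?_, IsPullback.lift_snd _ _ _ _⟩
  have hsq : IsPullback gX ((Groth.L17.Strat.isPullback_projMap n (Spec.map φ)).lift (gX ≫ i) X'.hom
      (by rw [Category.assoc, hiX, hpb.w])) i (FGA.projMap n (Spec.map φ)) := by
    refine IsPullback.of_bot ?_ (IsPullback.lift_fst _ _ _ _).symm (Groth.L17.Strat.isPullback_projMap n (Spec.map φ))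
    rw [IsPullback.lift_snd, hiX]
    exact hpb
  exact MorphismProperty.of_isPullback (P := @IsClosedImmersion) hsq hi

end Groth.L05.CanonBC
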