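import Groth.Agent.L05.CanonBC.Transfer
import Groth.Agent.L05.CanonBC.Arith
import Groth.Agent.L13.CplRegular
import Groth.Agent.L21.RR.BaseChange
import Groth.Agent.S13321

/-!
# Relative minimality and completion
-/

set_option autoImplicit false
set_option linter.style.haveILetI false
set_option backward.isDefEq.respectTransparency false
set_option backward.isDefEq.respectTransparency.types false

universe u

open CategoryTheory CategoryTheory.Limits AlgebraicGeometry IsLocalRing

noncomputable section

namespace Groth.L05.CanonBC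

variable {R : Type u} [CommRing R] [IsDomain R] [IsDiscreteValuationRing R]

/-- The completed surface is regular and two-dimensional. -/
theorem completion_regular_dim {X : Over (Spec (CommRingCat.of R))} (hX : ArSurf.IsArithSurface R X)
    [IsProper X.hom] [IsIntegral (Curv2.bcCpl R X.hom)] :
    (∀ y : Curv2.bcCpl R X.hom, IsRegularLocalRing ((Curv2.bcCpl R X.hom).presheaf.stalk y)) ∧
      topologicalKrullDim (Curv2.bcCpl R X.hom) = 2 := by
  haveI := hX.2.1
  haveI : IsNoetherianRing (CommRingCat.of R) := inferInstanceAs (IsNoetherianRing R)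
  haveI : IsNoetherianRing (Curv2.cpl R) := Groth.L01.AnalUnram.isNoetherianRing_completion R
  haveI : IsNoetherianRing (CommRingCat.of (Curv2.cpl R)) := inferInstanceAs (IsNoetherianRing (Curv2.cpl R))
  haveI : IsProper (Curv2.bcCplSnd R X.hom) := MorphismProperty.pullback_snd (P := @IsProper) _ _ inferInstance
  haveI : IsLocallyNoetherian X.left := LocallyOfFiniteType.isLocallyNoetherian X.hom
  haveI : IsLocallyNoetherian (Curv2.bcCpl R X.hom) :=
    LocallyOfFiniteType.isLocallyNoetherian (Curv2.bcCplSnd R X.hom)
  refine ⟨(Groth.L13.CplRegular.regular_global_iff X.hom).1 hX.1, ?_⟩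
  refine dim_eq_two (Curv2.bcCplFst R X.hom) {q | X.hom (Curv2.bcCplFst R X.hom q) = closedPoint R}
    hX.2.2.1 (fun z => ?_) (fun w hw => ?_) (fun x => ?_)
  · obtain ⟨w, hzw, hw⟩ := Groth.L13.CplRegular.exists_specializes_closedPoint (Curv2.bcCplSnd R X.hom) z
    exact ⟨w, Groth.L13.CplRegular.apply_fst_eq_closedPoint X.hom hw, hzw⟩
  · letI := ((Curv2.bcCplFst R X.hom).stalkMap w).hom.toAlgebra
    haveI := Groth.L13.CplRegular.flat_fst X.hom
    haveI : Module.Flat (X.left.presheaf.stalk ((Curv2.bcCplFst R X.hom) w))
        ((Curv2.bcCpl R X.hom).presheaf.stalk w) := Flat.stalkMap (Curv2.bcCplFst R X.hom) w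
    exact Groth.L05.Henselization.ringKrullDim_eq_of_map_maximalIdeal _ _
      (Groth.L13.CplStalk.map_maximalIdeal_stalkMap (maximalIdeal R).fg_of_isNoetherianRing X.hom w hw)
  · obtain ⟨x₀, hx, hx₀⟩ := Groth.L13.CplRegular.exists_specializes_closedPoint X.hom x
    obtain ⟨y₀, hy₀, -⟩ := Scheme.Pullback.exists_preimage_pullback (f := X.hom)
      (g := Spec.map (CommRingCat.ofHom (algebraMap R (Curv2.cpl R)))) x₀ (closedPoint (Curv2.cpl R))
      (hx₀.trans (IsLocalRing.comap_closedPoint (algebraMap R (Curv2.cpl R))).symm)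
    exact ⟨y₀, by show X.hom _ = _; rw [show (Curv2.bcCplFst R X.hom) y₀ = x₀ from hy₀]; exact hx₀,
      by rw [show (Curv2.bcCplFst R X.hom) y₀ = x₀ from hy₀]; exact hx⟩

variable {R' : Type u} [CommRing R'] [IsDomain R'] [IsDiscreteValuationRing R'] [Algebra R R']

/-- The Euler characteristic of the generic fibre of a base change. -/
theorem eulerChar_bc [FaithfulSMul R R'] {X : Over (Spec (CommRingCat.of R))} {X' : Over (Spec (CommRingCat.of R'))}
    [IsProper X.hom] (gX : X'.left ⟶ X.left)
    (hpb : IsPullback gX X'.hom X.hom (Spec.map (CommRingCat.ofHom (algebraMap R R')))) :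
    FGA.eulerCharLE (FractionRing R') ((Neron.genericFibre R').obj X').left (Coh.structureModule _) 1 =
      FGA.eulerCharLE (FractionRing R) ((Neron.genericFibre R).obj X).left (Coh.structureModule _) 1 := by
  letI : Algebra (FractionRing R) (FractionRing R') := FractionRing.liftAlgebra R (FractionRing R')
  let a := pullback.fst X'.hom (Neron.genPt R') ≫ gX
  let t := Spec.map (CommRingCat.ofHom (algebraMap (FractionRing R) (FractionRing R')))
  have ht : t ≫ Neron.genPt R = Neron.genPt R' ≫ Spec.map (CommRingCat.ofHom (algebraMap R R')) := by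
    show Spec.map _ ≫ Spec.map _ = Spec.map _ ≫ Spec.map _
    rw [← Spec.map_comp, ← Spec.map_comp, ← CommRingCat.ofHom_comp, ← CommRingCat.ofHom_comp,
      ← IsScalarTower.algebraMap_eq R (FractionRing R) (FractionRing R'),
      ← IsScalarTower.algebraMap_eq R R' (FractionRing R')]
  let W := ((Neron.genericFibre R).obj X).left
  let W' := ((Neron.genericFibre R').obj X').left
  let g : W' ⟶ W := pullback.lift a (pullback.snd _ _ ≫ t) (by
    rw [Category.assoc, hpb.w, pullback.condition_assoc, Category.assoc, ht])
  haveI : IsProper (W ↘ Spec (CommRingCat.of (FractionRing R))) :=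
    MorphismProperty.pullback_snd (P := @IsProper) X.hom (Neron.genPt R) inferInstance
  have sq : IsPullback g (W' ↘ Spec (CommRingCat.of (FractionRing R'))) (W ↘ Spec (CommRingCat.of (FractionRing R))) t := by
    refine IsPullback.of_right ?_ (pullback.lift_snd _ _ _) (IsPullback.of_hasPullback X.hom (Neron.genPt R))
    show IsPullback (g ≫ pullback.fst X.hom (Neron.genPt R)) (pullback.snd X'.hom (Neron.genPt R')) X.hom (t ≫ Neron.genPt R)
    rw [pullback.lift_fst, ht]
    exact (IsPullback.of_hasPullback X'.hom (Neron.genPt R')).paste_horiz hpb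
  have key : ∀ n, Module.finrank (FractionRing R') (Coh.HH W' (Coh.structureModule W') n) =
      Module.finrank (FractionRing R) (Coh.HH W (Coh.structureModule W) n) := fun n =>
    Groth.L21.RR.h_structure_bc g sq n
  show FGA.eulerCharLE (FractionRing R') W' (Coh.structureModule W') 1 =
    FGA.eulerCharLE (FractionRing R) W (Coh.structureModule W) 1
  simp only [FGA.eulerCharLE, key]

theorem isLocalHom_of_completion (e : R' ≃ₐ[R] AdicCompletion (maximalIdeal R) R) :
    IsLocalHom (algebraMap R R') := ⟨fun a ha => by
  refine isUnit_of_map_unit (algebraMap R (AdicCompletion (maximalIdeal R) R)) a ?_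
  rw [← e.commutes]
  exact ha.map e⟩

theorem bijective_residue_of_completion (e : R' ≃ₐ[R] AdicCompletion (maximalIdeal R) R)
    [IsLocalHom (algebraMap R R')] :
    Function.Bijective (algebraMap (ResidueField R) (ResidueField R')) := by
  refine ⟨RingHom.injective _, fun y => ?_⟩
  obtain ⟨r, rfl⟩ := IsLocalRing.residue_surjective y
  obtain ⟨z, hz⟩ := (AdicCompletion.residueField_map_bijective_of_fg (R := R)
    (maximalIdeal R).fg_of_isNoetherianRing).2 (residue _ (e r))
  obtain ⟨z, rfl⟩ := IsLocalRing.residue_surjective z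
  refine ⟨residue R z, (Ideal.Quotient.eq.2 ?_ : residue R' (algebraMap R R' z) = residue R' r)⟩
  have h : algebraMap R (AdicCompletion (maximalIdeal R) R) z - e r ∈ maximalIdeal _ := Ideal.Quotient.eq.1 hz
  rw [← e.commutes, ← map_sub, IsLocalRing.mem_maximalIdeal, mem_nonunits_iff] at h
  rw [IsLocalRing.mem_maximalIdeal, mem_nonunits_iff]
  exact fun hu => h (hu.map e)

/-- Relative minimality transfers along flat extensions with trivial residue extension. -/
theorem relMinimal_iff_of_residue_bij [IsLocalHom (algebraMap R R')] [FaithfulSMul R R']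
    {X : Over (Spec (CommRingCat.of R))} {X' : Over (Spec (CommRingCat.of R'))}
    (hX : ArSurf.IsArithSurface R X) (hX' : ArSurf.IsArithSurface R' X') (gX : X'.left ⟶ X.left)
    (hpb : IsPullback gX X'.hom X.hom (Spec.map (CommRingCat.ofHom (algebraMap R R'))))
    [IsProper X.hom] [IsProper X'.hom] [IsAffineHom gX] [Flat (Spec.map (CommRingCat.ofHom (algebraMap R R')))]
    (hbij : Function.Bijective (algebraMap (ResidueField R) (ResidueField R')))
    (hg : FGA.eulerCharLE (FractionRing R) ((Neron.genericFibre R).obj X).left (Coh.structureModule _) 1 ≤ 0) :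
    Neron.IsRelMinimalRegularModel R X ↔ Neron.IsRelMinimalRegularModel R' X' := by
  haveI : Module.Finite (ResidueField R) (ResidueField R') := Module.Finite.of_surjective
    (Algebra.linearMap (ResidueField R) (ResidueField R')) hbij.2
  haveI : IsNoetherianRing (CommRingCat.of R) := inferInstanceAs (IsNoetherianRing R)
  have hg' := (eulerChar_bc gX hpb).trans_le hg
  obtain ⟨ω, hω⟩ := exists_isCanonical hX
  have hω' := isCanonical_baseChange hpb (Or.inr inferInstance) hω
  rw [Groth.Agent.S13321.result R X hX hg ω hω, Groth.Agent.S13321.result R' X' hX' hg' _ hω']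
  constructor
  · intro h C'
    by_contra hC
    obtain ⟨C, hC'⟩ := exists_neg_image gX hpb.w (Groth.L13.Canon.isInvertible_of_isCanonical hω) C' (not_le.1 hC)
    exact absurd hC' (not_lt.2 (h C))
  · intro h C
    by_contra hC
    obtain ⟨C', hC'⟩ := exists_neg_lift gX hpb.w hpb hbij C (not_le.1 hC)
    exact absurd hC' (not_lt.2 (h C'))

/-- Relative minimality is insensitive to completion in non-positive Euler characteristic. -/
theorem relMinimal_iff_completion (e : R' ≃ₐ[R] AdicCompletion (maximalIdeal R) R)
    (X : Over (Spec (CommRingCat.of R))) (hX : ArSurf.IsArithSurface R X)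
    (hg : FGA.eulerCharLE (FractionRing R) ((Neron.genericFibre R).obj X).left (Coh.structureModule _) 1 ≤ 0)
    [IsIntegral ((Over.pullback (Spec.map (CommRingCat.ofHom (algebraMap R R')))).obj X).left] :
    ArSurf.IsArithSurface R' ((Over.pullback (Spec.map (CommRingCat.ofHom (algebraMap R R')))).obj X) ∧
      (Neron.IsRelMinimalRegularModel R X ↔
        Neron.IsRelMinimalRegularModel R' ((Over.pullback (Spec.map (CommRingCat.ofHom (algebraMap R R')))).obj X)) := by
  haveI : IsProper X.hom := Groth.L05.RelMinExists.isProper_of_projective hX.2.2.2.2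
  haveI := isLocalHom_of_completion e
  haveI : FaithfulSMul R R' := (faithfulSMul_iff_algebraMap_injective R R').2 fun a b h => by
    haveI : Module.Flat R (AdicCompletion (maximalIdeal R) R) := inferInstance
    haveI := Module.FaithfullyFlat.of_flat_of_isLocalHom (A := R) (B := AdicCompletion (maximalIdeal R) R)
    refine FaithfulSMul.algebraMap_injective R (AdicCompletion (maximalIdeal R) R) ?_
    rw [← e.commutes, ← e.commutes, h]
  let σ := Spec.map (CommRingCat.ofHom (algebraMap R R'))
  let X' := (Over.pullback σ).obj X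
  let gX := pullback.fst X.hom σ
  have hpb : IsPullback gX X'.hom X.hom σ := IsPullback.of_hasPullback X.hom σ
  haveI : IsIntegral X'.left := ‹_›
  -- comparison with the completed surface
  let ε : CommRingCat.of (Curv2.cpl R) ≅ CommRingCat.of R' := e.symm.toRingEquiv.toCommRingCatIso
  let τ := Spec.map ε.hom
  have hτ : τ ≫ Spec.map (CommRingCat.ofHom (algebraMap R (Curv2.cpl R))) = σ := by
    rw [← Spec.map_comp]
    exact congrArg Spec.map (CommRingCat.hom_ext (RingHom.ext fun a => e.symm.commutes a))
  let ψ : X'.left ⟶ Curv2.bcCpl R X.hom := pullback.map X.hom σ X.hom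
    (Spec.map (CommRingCat.ofHom (algebraMap R (Curv2.cpl R)))) (𝟙 _) τ (𝟙 _) (by simp) (by simp [hτ])
  haveI : IsIso ψ := inferInstance
  have hψ : ψ ≫ Curv2.bcCplFst R X.hom = gX := (pullback.lift_fst _ _ _).trans (Category.comp_id _)
  haveI : IsIntegral (Curv2.bcCpl R X.hom) := IsIntegral.of_isIso ψ
  obtain ⟨hreg, hdim⟩ := completion_regular_dim hX
  have hreg' : ∀ y : X'.left, IsRegularLocalRing (X'.left.presheaf.stalk y) := fun y => by
    haveI := hreg (ψ y)
    exact IsRegularLocalRing.of_ringEquiv (asIso (ψ.stalkMap y)).commRingCatIsoToRingEquiv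
  have hdim' : topologicalKrullDim X'.left = 2 :=
    (IsHomeomorph.topologicalKrullDim_eq _ ψ.homeomorph.isHomeomorph).trans hdim
  have hX' : ArSurf.IsArithSurface R' X' := arith_bc gX hpb hX hreg' hdim'
  refine ⟨hX', ?_⟩
  haveI : IsProper X'.hom := MorphismProperty.of_isPullback (P := @IsProper) hpb inferInstance
  haveI : IsAffineHom gX := MorphismProperty.pullback_fst (P := @IsAffineHom) _ _ inferInstance
  haveI : Flat σ := (HasRingHomProperty.Spec_iff (P := @Flat)).mpr (RingHom.flat_algebraMap_iff.mpr
    (Module.Flat.of_linearEquiv e.toLinearEquiv))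
  exact relMinimal_iff_of_residue_bij hX hX' gX hpb (bijective_residue_of_completion e) hg

end Groth.L05.CanonBC
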