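import Groth.Agent.L05.CanonBC.Codim
import Groth.Agent.L05.CanonBC.Main
import Groth.Agent.L13.Canon.VertAdjunct

/-!
# The canonical module of a composite
-/

set_option autoImplicit false
set_option linter.style.haveILetI false
set_option backward.isDefEq.respectTransparency false
set_option backward.isDefEq.respectTransparency.types false

universe u

open CategoryTheory CategoryTheory.Limits AlgebraicGeometry

noncomputable section

namespace Groth.L05.CanonBC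

open Groth.L22.CurveDeg.Det Groth.L22.Adjunction
open Groth.L00.Tensor (tensorIso tensorAssoc tensorComm tensorUnitRight tensorUnitLeft)

/-- The conormal sequence of a composite whose first map is `H₁`-regular, with determinants. -/
theorem immersion_comp_det {Z Y W : Scheme.{u}} (i : Z ⟶ Y) (j : Y ⟶ W) [IsImmersion i] [IsImmersion j]
    [QuasiCompact i] [QuasiCompact j]
    (hi : RegImm.IsRegularImmersion RegImm.Kind.h1 i) {p q : ℕ}
    (hCj : FlatMod.IsFinLocFreeOfRank p (Omega.conormal j)) (hCi : FlatMod.IsFinLocFreeOfRank q (Omega.conormal i))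
    {Dj : Y.Modules} (hDj : ExtPow.IsExtPow p (Omega.conormal j) Dj) {Di : Z.Modules}
    (hDi : ExtPow.IsExtPow q (Omega.conormal i) Di) :
    FlatMod.IsFinLocFreeOfRank (p + q) (Omega.conormal (i ≫ j)) ∧
      ∀ DF : Z.Modules, ExtPow.IsExtPow (p + q) (Omega.conormal (i ≫ j)) DF →
        Nonempty (DF ≅ CohB1.tensorMod ((Scheme.Modules.pullback i).obj Dj) Di) := by
  obtain ⟨a, ha, -⟩ := Groth.Agent.S9371.result (i ≫ j) j (𝟙 W) i (by simp)
  obtain ⟨b, hb, -⟩ := Groth.Agent.S9371.result i (i ≫ j) j (𝟙 Z) (by simp)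
  obtain ⟨w, hse, -⟩ := Groth.Agent.S8919.result i j a ha b hb hi
  have hA : FlatMod.IsFinLocFreeOfRank p ((Scheme.Modules.pullback i).obj (Omega.conormal j)) :=
    Groth.L12.StabLimit.isFinLocFreeOfRank_pullback i hCj
  refine ⟨Groth.L13.Canon.isFinLocFreeOfRank_middle (hse w) hA hCi, fun DF hDF => ?_⟩
  obtain ⟨LA, hLA, -⟩ := exists_isExtPow hA
  obtain ⟨e⟩ := nonempty_det_pullback i hCj hDj hA hLA (Iso.refl _)
  obtain ⟨r⟩ := Groth.L13.Canon.nonempty_det_ses (hse w) hA hCi hLA hDi hDF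
  exact ⟨r ≪≫ tensorIso e.symm (Iso.refl _)⟩

theorem tensor_shuffle {X : Scheme.{u}} (A B C D : X.Modules) :
    Nonempty (CohB1.tensorMod (CohB1.tensorMod A B) (CohB1.tensorMod C D) ≅
      CohB1.tensorMod (CohB1.tensorMod A C) (CohB1.tensorMod B D)) :=
  ⟨tensorAssoc _ _ _ ≪≫ tensorIso (Iso.refl A) ((tensorAssoc B C D).symm ≪≫
    tensorIso (tensorComm B C) (Iso.refl D) ≪≫ tensorAssoc C B D) ≪≫ (tensorAssoc _ _ _).symm⟩

variable {X Y S : Scheme.{u}} {f : X ⟶ Y} {g : Y ⟶ S}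

/-- The canonical module of a composite is the tensor product of the canonical modules. -/
theorem nonempty_iso_comp [IsLocallyNoetherian Y] [IsLocallyNoetherian S] {ω₁ : X.Modules} {ω₂ : Y.Modules}
    {ω₃ : X.Modules} (h₁ : Canon.IsCanonical f ω₁) (h₂ : Canon.IsCanonical g ω₂) (h₃ : Canon.IsCanonical (f ≫ g) ω₃) :
    Nonempty (ω₃ ≅ CohB1.tensorMod ω₁ ((Scheme.Modules.pullback f).obj ω₂)) := by
  obtain ⟨Z₁, i₁, g₁, c₁, n₁, e₁, hi₁, hg₁, hqi₁, hqg₁, v₁⟩ := id h₁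
  obtain ⟨Z₂, i₂, g₂, c₂, n₂, e₂, hi₂, hg₂, hqi₂, hqg₂, DC₂, DΩ₂, hDC₂, hDΩ₂, ⟨r₂⟩⟩ := h₂
  obtain ⟨Z₃, i₃, g₃, c₃, n₃, e₃, hi₃, hg₃, hqi₃, hqg₃, DC₃, DΩ₃, hDC₃, hDΩ₃, ⟨r₃⟩⟩ := h₃
  rcases isEmpty_or_nonempty X with hX | hX
  · exact ⟨(Groth.L22.Adjunction.isZero_of_isEmpty ω₃).iso (Groth.L22.Adjunction.isZero_of_isEmpty _)⟩
  haveI := hi₁.1; haveI := hg₁; haveI := hqi₁; haveI := hqg₁
  haveI := hi₂.1; haveI := hg₂; haveI := hqi₂; haveI := hqg₂
  haveI := hi₃.1; haveI := hg₃; haveI := hqi₃; haveI := hqg₃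
  haveI := smoothOfRelativeDimension_isStableUnderBaseChange (n := n₂)
  haveI := smoothOfRelativeDimension_isStableUnderBaseChange (n := n₃)
  haveI : Smooth g₃ := SmoothOfRelativeDimension.smooth n₃ g₃
  haveI : Smooth g₂ := SmoothOfRelativeDimension.smooth n₂ g₂
  -- the graph over `Y`
  let P := pullback g₃ g
  let pr := pullback.fst g₃ g
  let p := pullback.snd g₃ g
  let k : X ⟶ P := pullback.lift i₃ f e₃
  have hk₁ : k ≫ pr = i₃ := pullback.lift_fst _ _ _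
  have hk₂ : k ≫ p = f := pullback.lift_snd _ _ _
  haveI : IsImmersion (k ≫ pr) := hk₁.symm ▸ hi₃.1
  haveI : IsImmersion k := IsImmersion.of_comp k pr
  haveI : SmoothOfRelativeDimension n₃ p :=
    MorphismProperty.of_isPullback (P := @SmoothOfRelativeDimension n₃) (IsPullback.of_hasPullback g₃ g) inferInstance
  haveI : QuasiSeparated p :=
    MorphismProperty.of_isPullback (P := @QuasiSeparated) (IsPullback.of_hasPullback g₃ g) inferInstance
  haveI : Smooth p := SmoothOfRelativeDimension.smooth n₃ p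
  haveI : IsLocallyNoetherian P := LocallyOfFiniteType.isLocallyNoetherian p
  haveI : QuasiCompact k := Groth.L09.Stack.quasiCompact_of_isImmersion k
  obtain ⟨d, hk⟩ := exists_ofCodim_of_factor (n₁ := n₁) (n := n₃) i₁ g₁ hi₁ k p (hk₂.trans e₁.symm)
  have hCk := Groth.L13.Canon.isFinLocFreeOfRank_conormal k hk
  obtain ⟨Dk, hDk, -⟩ := exists_isExtPow hCk
  -- the canonical module of `f` through the graph
  have hΩ₃ := Groth.L02.Canon.isFinLocFreeOfRank_omega (f := g₃) n₃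
  have hΩp := Groth.L02.Canon.isFinLocFreeOfRank_omega (f := p) n₃
  obtain ⟨Dp, hDp, -⟩ := exists_isExtPow hΩp
  have hd := Groth.L19.OmegaSh.isUniversal_dOmega (f := g₃)
  have hd' := Groth.L19.OmegaSh.isUniversal_dOmega (f := p)
  obtain ⟨b, hb, -⟩ := Groth.L19.OmegaSh.existsUnique_diffCompat pr g
    (IsPullback.of_hasPullback g₃ g).w.symm hd (OmegaSh.dOmega p)
  haveI := Groth.Agent.S9386.result g₃ g pr p (IsPullback.of_hasPullback g₃ g) _ _ hd _ _ hd' b hb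
  obtain ⟨op⟩ := nonempty_det_pullback pr hΩ₃ hDΩ₃ hΩp hDp (asIso b)
  obtain ⟨Dk', -, ⟨nk⟩⟩ := Groth.L08.Cube.exists_inverse (show PicF.IsInvertible Dk from by
    obtain ⟨φ, hφ⟩ := hDk
    exact isInvertible_of_extPow φ hφ hCk)
  let ω := CohB1.tensorMod ((Scheme.Modules.pullback k).obj Dp) Dk'
  let rω : CohB1.tensorMod ω Dk ≅ (Scheme.Modules.pullback k).obj Dp :=
    tensorAssoc _ _ _ ≪≫ tensorIso (Iso.refl _) (tensorComm _ _ ≪≫ nk) ≪≫ tensorUnitRight _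
  obtain ⟨η⟩ := nonempty_iso_of_isCanonical h₁ ⟨P, k, p, d, n₃, hk₂, hk, inferInstance, inferInstance, inferInstance,
    Dk, Dp, hDk, hDp, ⟨rω⟩⟩
  -- the second lifting
  let Q := pullback g₃ g₂
  let q₁ := pullback.fst g₃ g₂
  let q₂ := pullback.snd g₃ g₂
  let q : P ⟶ Q := pullback.lift pr (p ≫ i₂) (by rw [Category.assoc, e₂, pullback.condition])
  have hq₁ : q ≫ q₁ = pr := pullback.lift_fst _ _ _
  have hq₂ : q ≫ q₂ = p ≫ i₂ := pullback.lift_snd _ _ _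
  have hqsq : IsPullback p q i₂ q₂ := by
    refine IsPullback.of_bot ?_ hq₂.symm (IsPullback.of_hasPullback g₃ g₂).flip
    rw [hq₁, e₂]
    exact (IsPullback.of_hasPullback g₃ g).flip
  haveI : SmoothOfRelativeDimension n₃ q₂ :=
    MorphismProperty.of_isPullback (P := @SmoothOfRelativeDimension n₃) (IsPullback.of_hasPullback g₃ g₂) inferInstance
  haveI : Smooth q₂ := SmoothOfRelativeDimension.smooth n₃ q₂
  haveI : QuasiSeparated q₂ :=
    MorphismProperty.of_isPullback (P := @QuasiSeparated) (IsPullback.of_hasPullback g₃ g₂) inferInstance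
  haveI : IsLocallyNoetherian Z₂ := LocallyOfFiniteType.isLocallyNoetherian g₂
  haveI : IsLocallyNoetherian Q := LocallyOfFiniteType.isLocallyNoetherian q₂
  have hq : RegImm.IsRegularImmersionOfCodim .regular c₂ q :=
    ofCodim_baseChange_flat (f := 𝟙 Z₂) (g := q₂) (f' := 𝟙 Q) (g' := q₂)
      (IsPullback.of_vert_isIso ⟨by simp⟩) hqsq hi₂
  haveI := hq.1
  haveI : QuasiCompact q := Groth.L09.Stack.quasiCompact_of_isImmersion q
  have hC₂ := Groth.L13.Canon.isFinLocFreeOfRank_conormal i₂ hi₂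
  have hCq := Groth.L13.Canon.isFinLocFreeOfRank_conormal q hq
  obtain ⟨Dq, hDq, -⟩ := exists_isExtPow hCq
  obtain ⟨φ, hφ, -⟩ := Groth.Agent.S9371.result q i₂ q₂ p hqsq.w
  haveI := (Groth.Agent.S9372.result q i₂ q₂ p hqsq.flip φ hφ).2 inferInstance
  obtain ⟨oq⟩ := nonempty_det_pullback p hC₂ hDC₂ hCq hDq (asIso φ)
  let m := k ≫ q
  have hm₁ : m ≫ q₁ = i₃ := by rw [Category.assoc, hq₁, hk₁]
  have hm₂ : m ≫ q₂ = f ≫ i₂ := by rw [Category.assoc, hq₂, ← Category.assoc, hk₂]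
  haveI : QuasiCompact m := Groth.L09.Stack.quasiCompact_of_isImmersion m
  obtain ⟨hF, hdet⟩ := immersion_comp_det k q (Groth.L13.Canon.isRegularImmersion_kind _ hk) hCq hCk hDq hDk
  have hC₃ := Groth.L13.Canon.isFinLocFreeOfRank_conormal i₃ hi₃
  obtain ⟨hF', hdet'⟩ := Groth.L13.Canon.nonempty_det_lift g₃ g₂ q₁ q₂ (IsPullback.of_hasPullback g₃ g₂) m i₃ (f ≫ i₂)
    hm₁ hm₂ hC₃ hDC₃ hDΩ₂
  have hrk : c₂ + d = c₃ + n₂ := by
    obtain ⟨x⟩ := hX
    obtain ⟨U, hU, ⟨e⟩⟩ := hF x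
    obtain ⟨V, hV, ⟨e'⟩⟩ := hF' x
    exact Groth.L18.KRRAmple.rank_unique hU hV e e'
  obtain ⟨DT, hDT, hDTi⟩ := exists_isExtPow hF
  obtain ⟨t⟩ := hdet DT hDT
  obtain ⟨t'⟩ := hdet' DT (hrk ▸ hDT)
  let T := Scheme.Modules.pullback f
  -- compare
  let eDq : (Scheme.Modules.pullback k).obj Dq ≅ T.obj DC₂ :=
    (Scheme.Modules.pullback k).mapIso oq.symm ≪≫ (Scheme.Modules.pullbackComp k p).app _ ≪≫
      (Scheme.Modules.pullbackCongr hk₂).app _
  let eΩ₂ : (Scheme.Modules.pullback (f ≫ i₂)).obj DΩ₂ ≅ CohB1.tensorMod (T.obj ω₂) (T.obj DC₂) :=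
    ((Scheme.Modules.pullbackComp f i₂).app _).symm ≪≫ T.mapIso r₂.symm ≪≫
      (Groth.L29.DC.PullTensor.pullTensor f ω₂ DC₂).symm
  let eΩ₃ : (Scheme.Modules.pullback i₃).obj DΩ₃ ≅ CohB1.tensorMod ω₁ Dk :=
    (Scheme.Modules.pullbackCongr hk₁.symm).app _ ≪≫ ((Scheme.Modules.pullbackComp k pr).app _).symm ≪≫
      (Scheme.Modules.pullback k).mapIso op ≪≫ rω.symm ≪≫ tensorIso η.symm (Iso.refl _)
  obtain ⟨s⟩ := tensor_shuffle ω₁ Dk (T.obj ω₂) (T.obj DC₂)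
  refine Groth.L13.Canon.nonempty_cancel hDTi ?_
  exact tensorIso (Iso.refl ω₃) (t' ≪≫ tensorIso (Iso.refl DC₃) eΩ₂) ≪≫ (tensorAssoc _ _ _).symm ≪≫
    tensorIso (r₃ ≪≫ eΩ₃) (Iso.refl _) ≪≫ s ≪≫
    tensorIso (Iso.refl _) (tensorIso (Iso.refl Dk) eDq.symm ≪≫ tensorComm _ _ ≪≫ t.symm)

end Groth.L05.CanonBC
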