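import Groth.Agent.L05.InterPair.Curve
import Groth.Agent.S7640

/-!
# Degrees on curves under extensions of the ground field and finite maps
-/

set_option autoImplicit false
set_option linter.style.haveILetI false
set_option backward.isDefEq.respectTransparency false
set_option backward.isDefEq.respectTransparency.types false

universe u

open CategoryTheory CategoryTheory.Limits AlgebraicGeometry

noncomputable section

namespace Groth.L05.CanonBC

variable (κ κ' : Type u) [Field κ] [Field κ'] [Algebra κ κ'] {Y : Scheme.{u}} (f : Y ⟶ Spec (CommRingCat.of κ'))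

/-- Dimensions over a subfield. -/
theorem finrank_HH_tower (M : Y.Modules) (i : ℕ) :
    @Module.finrank κ (Coh.HH Y M i) _ _
        (letI : Y.Over (Spec (CommRingCat.of κ)) := ⟨f ≫ Spec.map (CommRingCat.ofHom (algebraMap κ κ'))⟩
         inferInstance) =
      Module.finrank κ κ' * (letI : Y.Over (Spec (CommRingCat.of κ')) := ⟨f⟩
        Module.finrank κ' (Coh.HH Y M i)) := by
  letI : Module κ' (Coh.HH Y M i) :=
    letI : Y.Over (Spec (CommRingCat.of κ')) := ⟨f⟩
    inferInstance
  letI : Module κ (Coh.HH Y M i) :=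
    letI : Y.Over (Spec (CommRingCat.of κ)) := ⟨f ≫ Spec.map (CommRingCat.ofHom (algebraMap κ κ'))⟩
    inferInstance
  haveI : IsScalarTower κ κ' (Coh.HH Y M i) := IsScalarTower.of_algebraMap_smul fun c m => by
    show Sheaf.H.map (Coh.smulAb M _) i m = Sheaf.H.map (Coh.smulAb M _) i m
    congr 3
    show (Coh.toGlobal f) (algebraMap κ κ' c) = Coh.toGlobal (f ≫ Spec.map (CommRingCat.ofHom (algebraMap κ κ'))) c
    exact congrArg f.appTop.hom
      (congr($(Scheme.ΓSpecIso_inv_naturality (CommRingCat.ofHom (algebraMap κ κ'))).hom c))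
  exact (Module.finrank_mul_finrank κ κ' (Coh.HH Y M i)).symm

/-- Degrees over a subfield. -/
theorem curveDeg_tower (M : Y.Modules) :
    (letI : Y.Over (Spec (CommRingCat.of κ)) := ⟨f ≫ Spec.map (CommRingCat.ofHom (algebraMap κ κ'))⟩
     ArSurf.curveDeg κ Y M) =
      (Module.finrank κ κ' : ℤ) * (letI : Y.Over (Spec (CommRingCat.of κ')) := ⟨f⟩
        ArSurf.curveDeg κ' Y M) := by
  simp only [ArSurf.curveDeg, FGA.eulerCharLE, Finset.sum_range_succ, Finset.sum_range_zero,
    finrank_HH_tower κ κ' f]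
  push_cast
  ring

/-- Negativity of degrees is inherited by the image of a curve. -/
theorem curveDeg_neg_of_pullback {X : Scheme.{u}} [X.Over (Spec (CommRingCat.of κ))] [Y.Over (Spec (CommRingCat.of κ))]
    [IsIntegral X] [IsIntegral Y] [IsProper (X ↘ Spec (CommRingCat.of κ))] [IsProper (Y ↘ Spec (CommRingCat.of κ))]
    (hX : topologicalKrullDim X = 1) (hY : topologicalKrullDim Y = 1) (g : Y ⟶ X)
    (hg : g ≫ (X ↘ Spec (CommRingCat.of κ)) = Y ↘ Spec (CommRingCat.of κ))
    (hξ : g.base (genericPoint Y) = genericPoint X) {L : X.Modules} (hL : PicF.IsInvertible L)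
    (h : ArSurf.curveDeg κ Y ((Scheme.Modules.pullback g).obj L) < 0) : ArSurf.curveDeg κ X L < 0 := by
  have hdeg := Groth.Agent.S7640.result κ Y X hY hX g hg hξ 1 L
    (Groth.L22.CurveDeg.Det.isFinLocFreeOfRank_one_of_isInvertible hL)
  simp only [Curv2.deg, Nat.cast_one, one_mul, ← Groth.L05.InterPair.curveDeg_eq_euler κ hY,
    ← Groth.L05.InterPair.curveDeg_eq_euler κ hX] at hdeg
  rw [hdeg] at h
  by_contra h0
  exact absurd h (not_lt.2 (mul_nonneg (Int.natCast_nonneg _) (not_lt.1 h0)))

end Groth.L05.CanonBC
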