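import Groth.Agent.L05.RelMinUnique.Contract
import Groth.Agent.L05.InterPair.Negative

/-!
# Exceptional curves of local surfaces are exceptional globally
-/

set_option autoImplicit false
set_option linter.style.haveILetI false
set_option backward.isDefEq.respectTransparency false
set_option backward.isDefEq.respectTransparency.types false

universe u

open CategoryTheory CategoryTheory.Limits AlgebraicGeometry
open Groth.L05.RelMinUnique

noncomputable section

namespace Groth.L05.CanonBC

variable {R : Type u} [CommRing R] [IsDedekindDomain R] {X : Over (Spec (CommRingCat.of R))}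

theorem residue_comp_surjective (s : PrimeSpectrum R) [hm : s.asIdeal.IsMaximal] :
    Function.Surjective ((IsLocalRing.residue (Rs s)).comp (algebraMap R (Rs s))) :=
  Ideal.algebraMap_residueField_surjective s.asIdeal

/-- An exceptional curve of the local surface is one of the global surface. -/
theorem exists_global_exc (hX : IsPropSurf R X) (s : PrimeSpectrum R) (hs : s.asIdeal ≠ ⊥)
    [IsDiscreteValuationRing (Rs s)] (hXs : ArSurf.IsArithSurface (Rs s) (loc s X))
    (E : ArSurf.VertComp (Rs s) (loc s X)) (hexc : Models.IsExcCurve E.ι) :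
    ∃ _ : IsClosedImmersion (E.ι ≫ locFst s X),
      Models.IsExcCurve (E.ι ≫ locFst s X) ∧ Set.range (E.ι ≫ locFst s X) ⊆ X.hom ⁻¹' {s} := by
  haveI := hX.integral; haveI := hX.proper; haveI := hX.flat
  haveI := hXs.2.1; haveI := hXs.2.2.2.1
  haveI : IsNoetherianRing (CommRingCat.of R) := inferInstanceAs (IsNoetherianRing R)
  haveI : IsLocallyNoetherian X.left := LocallyOfFiniteType.isLocallyNoetherian X.hom
  haveI : IsProper (loc s X).hom := Groth.L05.RelMinExists.isProper_of_projective hXs.2.2.2.2
  haveI : IsNoetherianRing (CommRingCat.of (Rs s)) := inferInstanceAs (IsNoetherianRing (Rs s))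
  haveI : IsLocallyNoetherian (loc s X).left := LocallyOfFiniteType.isLocallyNoetherian (loc s X).hom
  haveI := E.isClosedImmersion; haveI := E.isIntegral
  set ι := E.ι ≫ locFst s X with hι
  have hfst : locFst s X ≫ X.hom = (loc s X).hom ≫ locMap s := pullback.condition
  have hrange : Set.range ι ⊆ X.hom ⁻¹' {s} := by
    rintro _ ⟨a, rfl⟩
    show X.hom (ι a) = s
    rw [← Scheme.Hom.comp_apply, hι, Category.assoc, hfst, ← Category.assoc, E.w, Category.assoc,
      Scheme.Hom.comp_apply, Scheme.Hom.comp_apply,
      show Spec.map (CommRingCat.ofHom (IsLocalRing.residue (Rs s))) (E.curve.hom a) = IsLocalRing.closedPoint (Rs s)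
        from (Groth.L05.GeomMult.range_pt (R := Rs s)).subset ⟨_, rfl⟩]
    exact locMap_closedPoint s
  haveI : IsClosedImmersion ι := by
    haveI : IsPreimmersion (locFst s X) := inferInstance
    haveI : IsPreimmersion ι := hι ▸ inferInstance
    refine IsClosedImmersion.of_isPreimmersion ι ?_
    haveI : IsProper E.curve.hom := Groth.L05.InterPair.isProper_curve E
    haveI : IsProper (ι ≫ X.hom) := by
      haveI : IsClosedImmersion (Spec.map (CommRingCat.ofHom (IsLocalRing.residue (Rs s))) ≫ locMap s) := by
        haveI : s.asIdeal.IsMaximal := s.isPrime.isMaximal hs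
        rw [← Spec.map_comp]
        refine IsClosedImmersion.spec_of_surjective _ ?_
        exact residue_comp_surjective s
      rw [hι, Category.assoc, hfst, ← Category.assoc, E.w, Category.assoc]
      infer_instance
    haveI : IsProper ι := IsProper.of_comp ι X.hom
    exact ι.isClosedMap.isClosed_range
  refine ⟨inferInstance, ?_, hrange⟩
  obtain ⟨hC, k, _, e, ⟨τ⟩⟩ := hexc
  haveI : IsIso ι.toImage := inferInstance
  haveI : IsIntegral ι.ker.subscheme := IsIntegral.of_isIso ι.toImage
  have hC' : BlowUp.IsEffCartierIdeal ι.ker := by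
    refine Groth.Agent.S1684.result X.left _ ?_ fun x _ => ?_
    · have hg : ι.toImage (genericPoint E.curve.left) = genericPoint ι.ker.subscheme :=
        genericPoint_eq_of_isOpenImmersion ι.toImage
      rw [← hg, ← Scheme.Hom.comp_apply,
        show ι.toImage ≫ ι.ker.subschemeι = ι from ι.toImage_imageι, hι, Scheme.Hom.comp_apply,
        ringKrullDim_eq_of_ringEquiv (stalkEquiv s X _)]
      exact Groth.L05.InterPair.dim_genPtOf_of_surface hXs.1 hXs.2.2.1 E
    · haveI := hX.reg x
      exact ⟨Groth.L01.isDomain_of_regular _, Groth.L10.RegUFD.isUFD _⟩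
  have hker : ι.ker.comap (locFst s X) = E.ι.ker := by
    have hk : pullback.fst (locFst s X) ι = pullback.snd (locFst s X) ι ≫ E.ι := by
      rw [← cancel_mono (locFst s X), Category.assoc, pullback.condition]
    let kk : E.curve.left ⟶ pullback (locFst s X) ι := pullback.lift E.ι (𝟙 _) (by rw [Category.id_comp])
    haveI : IsIso kk := ⟨pullback.snd _ _, pullback.lift_snd _ _ _, pullback.hom_ext
      (by rw [Category.assoc, pullback.lift_fst, Category.id_comp, ← hk])
      (by rw [Category.assoc, pullback.lift_snd, Category.id_comp, Category.comp_id])⟩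
    rw [← Scheme.IdealSheafData.ker_fst_of_isClosedImmersion, ← Scheme.Hom.ker_comp_of_isIso kk,
      pullback.lift_fst]
  have hη : locFst s X (genericPoint (loc s X).left) ∉ ι.ker.support := by
    rw [(isIntegral_loc s hX).2]
    exact Groth.L22.notMem_support_of_maximal hC' (x := genericPoint X.left)
      (fun y hy => (hy.antisymm (genericPoint_specializes y)).eq)
  obtain ⟨-, ⟨α⟩⟩ := Groth.L03.BlowPt.nonempty_pullback_idealMod (locFst s X) hC' hη
  rw [hker] at α
  exact ⟨hC', k, inferInstance, e, ⟨(Scheme.Modules.pullbackCongr (by rw [hι, ← Category.assoc])).app _ ≪≫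
    ((Scheme.Modules.pullbackComp (e.hom ≫ E.ι) (locFst s X)).app _).symm ≪≫
    (Scheme.Modules.pullback (e.hom ≫ E.ι)).mapIso α ≪≫ τ⟩⟩

end Groth.L05.CanonBC
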