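import Groth.Agent.L05.CanonBC.Completion
import Groth.Agent.L05.CanonBC.Globalize
import Groth.Agent.L05.RelMinUnique.Main
import Groth.Agent.L21.CurvFib.EtaleField
import Groth.Agent.S7314

/-!
# Relative minimality and étale base change
-/

set_option autoImplicit false
set_option linter.style.haveILetI false
set_option backward.isDefEq.respectTransparency false
set_option backward.isDefEq.respectTransparency.types false

universe u

open CategoryTheory CategoryTheory.Limits AlgebraicGeometry
open Groth.L05.RelMinUnique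

noncomputable section

namespace Groth.L05.CanonBC

/-- An étale cover of a regular surface is a regular surface. -/
theorem etale_regular_dim {X X' : Scheme.{u}} [IsIntegral X] [IsIntegral X'] [IsLocallyNoetherian X]
    [IsLocallyNoetherian X'] (gX : X' ⟶ X) [Etale gX] [Surjective gX] (hreg : Models.IsRegularScheme X)
    (hdim : topologicalKrullDim X = 2) :
    Models.IsRegularScheme X' ∧ topologicalKrullDim X' = 2 := by
  have key : ∀ x : X', IsRegularLocalRing (X'.presheaf.stalk x) ∧
      ringKrullDim (X'.presheaf.stalk x) = ringKrullDim (X.presheaf.stalk (gX x)) := fun x => by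
    letI := (gX.stalkMap x).hom.toAlgebra
    haveI : Module.Flat (X.presheaf.stalk (gX x)) (X'.presheaf.stalk x) := Flat.stalkMap gX x
    haveI := hreg (gX x)
    exact Groth.L21.Smooth.regular_of_flat_of_map_maximalIdeal _ _
      (Groth.L21.CurvFib.map_maximalIdeal_stalkMap_of_etale gX x)
  refine ⟨fun x => (key x).1, dim_eq_two gX Set.univ hdim (fun z => ⟨z, trivial, specializes_rfl⟩)
    (fun w _ => (key w).2) fun x => ?_⟩
  obtain ⟨w, rfl⟩ := gX.surjective x
  exact ⟨w, trivial, specializes_rfl⟩

variable {R R' : Type u} [CommRing R] [IsDedekindDomain R] [CommRing R'] [IsDedekindDomain R'] [Algebra R R']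

theorem algebraMap_injective_of_etale_surjective [Algebra.Etale R R']
    (hsurj : Function.Surjective (PrimeSpectrum.comap (algebraMap R R'))) :
    Function.Injective (algebraMap R R') := by
  haveI : Module.FaithfullyFlat R R' := Module.FaithfullyFlat.of_comap_surjective hsurj
  exact FaithfulSMul.algebraMap_injective R R'

/-- The contracted prime of a closed point. -/
theorem comap_ne_bot [Algebra.Etale R R'] (hinj : Function.Injective (algebraMap R R')) (t : PrimeSpectrum R')
    (ht : t.asIdeal ≠ ⊥) : (PrimeSpectrum.comap (algebraMap R R') t).asIdeal ≠ ⊥ := by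
  intro h
  refine ht ?_
  have hfib : ∀ q : PrimeSpectrum R', q.asIdeal.comap (algebraMap R R') = ⊥ → q.asIdeal = ⊥ := fun q hq =>
    (Algebra.QuasiFinite.eq_of_le_of_under_eq (R := R) (⊥ : Ideal R') q.asIdeal bot_le (by
      rw [Ideal.under_def, Ideal.under_def, hq, Ideal.comap_bot_of_injective _ hinj])).symm
  exact hfib t h

/-- A relatively minimal surface of non-positive Euler characteristic has no exceptional curve after étale base
change. -/
theorem no_exc_of_etale [Algebra.Etale R R'] (hinj : Function.Injective (algebraMap R R'))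
    {X : Over (Spec (CommRingCat.of R))} (hX : ArSurf.IsArithSurface R X) (hmin : Neron.IsRelMinimalRegularModel R X)
    (hg : genChi X ≤ 0) {X' : Over (Spec (CommRingCat.of R'))} (hX' : ArSurf.IsArithSurface R' X')
    (gX : X'.left ⟶ X.left) (hpb : IsPullback gX X'.hom X.hom (Spec.map (CommRingCat.ofHom (algebraMap R R'))))
    (t : PrimeSpectrum R') (ht : t.asIdeal ≠ ⊥) {E : Scheme.{u}} (ι : E ⟶ X'.left) [IsClosedImmersion ι]
    (hv : Set.range ι ⊆ X'.hom ⁻¹' {t}) : ¬ Models.IsExcCurve ι := by
  intro hE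
  classical
  set s := PrimeSpectrum.comap (algebraMap R R') t with hsdef
  have hs : s.asIdeal ≠ ⊥ := comap_ne_bot hinj t ht
  have hP := IsPropSurf.of_arith hX
  have hP' := IsPropSurf.of_arith hX'
  haveI := hP.integral; haveI := hP.proper; haveI := hP.flat
  haveI := hP'.integral; haveI := hP'.proper; haveI := hP'.flat
  haveI := isDVR_Rs s hs
  haveI := isDVR_Rs t ht
  haveI : IsNoetherianRing (CommRingCat.of R') := inferInstanceAs (IsNoetherianRing R')
  haveI : IsLocallyNoetherian X'.left := LocallyOfFiniteType.isLocallyNoetherian X'.hom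
  obtain ⟨hint, hdimE⟩ := Groth.L05.MinModel.excCurve_integral hE
  haveI := hint
  obtain ⟨c₀, hc₀⟩ := exists_two_points hdimE
  have hvt : ∀ c, (X'.hom (ι c)).asIdeal ≠ ⊥ := fun c => by
    rw [show X'.hom (ι c) = t from hv ⟨c, rfl⟩]; exact ht
  have h2 := two_le_dim_stalk hP' (hvt _) ((genericPoint_specializes c₀).map ι.continuous)
    (fun h => hc₀ (ι.isClosedEmbedding.injective h).symm)
  have hXt := arith_loc t hP' ⟨ι c₀, hv ⟨c₀, rfl⟩, h2⟩
  -- the point below
  haveI : Etale gX := MorphismProperty.of_isPullback (P := @Etale) hpb.flip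
    ((HasRingHomProperty.Spec_iff (P := @Etale)).mpr (RingHom.etale_algebraMap.mpr ‹_›))
  haveI : IsNoetherianRing (CommRingCat.of R) := inferInstanceAs (IsNoetherianRing R)
  haveI : IsLocallyNoetherian X.left := LocallyOfFiniteType.isLocallyNoetherian X.hom
  have hXs := arith_loc s hP ⟨gX (ι c₀), by
    rw [← Scheme.Hom.comp_apply gX X.hom, hpb.w, Scheme.Hom.comp_apply,
      show X'.hom (ι c₀) = t from hv ⟨c₀, rfl⟩]
    rfl, by
    letI := (gX.stalkMap (ι c₀)).hom.toAlgebra
    haveI : Module.Flat (X.left.presheaf.stalk (gX (ι c₀))) (X'.left.presheaf.stalk (ι c₀)) :=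
      Flat.stalkMap gX (ι c₀)
    haveI := hP.reg (gX (ι c₀))
    exact h2.trans_eq (Groth.L21.Smooth.regular_of_flat_of_map_maximalIdeal _ _
      (Groth.L21.CurvFib.map_maximalIdeal_stalkMap_of_etale gX (ι c₀))).2⟩
  -- the exceptional curve on the local surface
  obtain ⟨ι', hι', -, he', hv'⟩ := exists_lift_exc t hP' ht ι hE hv
  haveI := hι'
  haveI := hXt.2.1; haveI := hXt.2.2.2.1
  haveI : IsProper (loc t X').hom := Groth.L05.RelMinExists.isProper_of_projective hXt.2.2.2.2
  haveI : IsNoetherianRing (CommRingCat.of (Rs t)) := inferInstanceAs (IsNoetherianRing (Rs t))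
  haveI : IsLocallyNoetherian (loc t X').left := LocallyOfFiniteType.isLocallyNoetherian (loc t X').hom
  obtain ⟨Γ, -, hΓ⟩ := Groth.L05.MinModel.exists_vertComp (loc t X').hom ι' he' hv'
  -- the extension of local rings
  haveI : t.asIdeal.LiesOver s.asIdeal := ⟨rfl⟩
  letI : Algebra (Rs s) (Rs t) := Localization.AtPrime.algebraOfLiesOver s.asIdeal t.asIdeal
  haveI : IsLocalHom (algebraMap (Rs s) (Rs t)) := Localization.isLocalHom_localRingHom _ _ _ rfl
  haveI : IsScalarTower R (Rs s) (Rs t) := IsScalarTower.of_algebraMap_eq fun a => by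
    show algebraMap R (Rs t) a = Localization.localRingHom s.asIdeal t.asIdeal (algebraMap R R') rfl (algebraMap R (Rs s) a)
    rw [Localization.localRingHom_to_map, ← IsScalarTower.algebraMap_apply]
  haveI : FaithfulSMul (Rs s) (Rs t) := (faithfulSMul_iff_algebraMap_injective _ _).2 <| by
    refine (injective_iff_map_eq_zero _).2 fun z hz => ?_
    obtain ⟨⟨a, b⟩, hb⟩ := IsLocalization.surj s.asIdeal.primeCompl z
    have h0 := congrArg (algebraMap (Rs s) (Rs t)) hb
    rw [map_mul, hz, zero_mul, ← IsScalarTower.algebraMap_apply, IsScalarTower.algebraMap_apply R R' (Rs t)] at h0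
    have ha : a = 0 := hinj ((IsLocalization.injective (Rs t) t.asIdeal.primeCompl_le_nonZeroDivisors
      (h0.symm.trans (map_zero _).symm)).trans (map_zero _).symm)
    rw [ha, map_zero] at hb
    exact (mul_eq_zero.1 hb).resolve_right fun h => b.2 (by
      rw [show (b : R) = 0 from IsLocalization.injective (Rs s) s.asIdeal.primeCompl_le_nonZeroDivisors
        (h.trans (map_zero _).symm)]
      exact zero_mem _)
  haveI : Module.Finite (IsLocalRing.ResidueField (Rs s)) (IsLocalRing.ResidueField (Rs t)) :=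
    inferInstanceAs (Module.Finite s.asIdeal.ResidueField t.asIdeal.ResidueField)
  let σ := Spec.map (CommRingCat.ofHom (algebraMap (Rs s) (Rs t)))
  have hσ : σ ≫ locMap s = locMap t ≫ Spec.map (CommRingCat.ofHom (algebraMap R R')) := by
    show Spec.map _ ≫ Spec.map _ = Spec.map _ ≫ Spec.map _
    rw [← Spec.map_comp, ← Spec.map_comp, ← CommRingCat.ofHom_comp, ← CommRingCat.ofHom_comp,
      ← IsScalarTower.algebraMap_eq, ← IsScalarTower.algebraMap_eq]
  let gt : (loc t X').left ⟶ (loc s X).left := pullback.lift (locFst t X' ≫ gX) ((loc t X').hom ≫ σ) (by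
    rw [Category.assoc, hpb.w, Category.assoc, hσ]
    exact pullback.condition_assoc _)
  have sq : IsPullback gt (loc t X').hom (loc s X).hom σ := by
    refine IsPullback.of_right ?_ (pullback.lift_snd _ _ _) (IsPullback.of_hasPullback X.hom (locMap s))
    show IsPullback (gt ≫ pullback.fst X.hom (locMap s)) (loc t X').hom X.hom (σ ≫ locMap s)
    rw [pullback.lift_fst, hσ]
    exact (IsPullback.of_hasPullback X'.hom (locMap t)).paste_horiz hpb
  haveI : IsAffineHom gt := MorphismProperty.of_isPullback (P := @IsAffineHom) sq.flip inferInstance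
  haveI := hXs.2.1; haveI := hXs.2.2.2.1
  haveI : IsProper (loc s X).hom := Groth.L05.RelMinExists.isProper_of_projective hXs.2.2.2.2
  haveI : IsNoetherianRing (CommRingCat.of (Rs s)) := inferInstanceAs (IsNoetherianRing (Rs s))
  haveI : IsLocallyNoetherian (loc s X).left := LocallyOfFiniteType.isLocallyNoetherian (loc s X).hom
  obtain ⟨ω, hω⟩ := exists_isCanonical hXs
  have hω' := isCanonical_baseChange sq (Or.inl inferInstance) hω
  let C' : ArSurf.VertComp (Rs t) (loc t X') :=
    ⟨Γ.curve, Γ.ι, Γ.isClosedImmersion, Γ.isIntegral, Γ.dim_eq, Γ.w⟩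
  obtain ⟨L, hL⟩ := Groth.L13.ArAdj.exists_inverse_vert hXt C'
  obtain ⟨k', _, _, _, e, he, hself⟩ := Groth.L05.MinExist.exists_excData C' hΓ L hL
  have hneg := (Groth.L13.ArAdj.neg_of_exc hXt C' hL hω' e he hself).1
  obtain ⟨C, hC⟩ := exists_neg_image gt sq.w (Groth.L13.Canon.isInvertible_of_isCanonical hω) C' hneg
  have hgs := (eulerChar_loc s hP).trans_le hg
  obtain ⟨L₁, hL₁⟩ := Groth.L13.ArAdj.exists_inverse_vert hXs C
  rcases lt_or_ge (ArSurf.inter (Rs s) (loc s X) L₁ C) 0 with h | h
  · obtain ⟨hcl, hexc, hr⟩ := exists_global_exc hP s hs hXs C (Groth.L13.ArAdj.isExcCurve_of_neg hXs C hL₁ hω hC h)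
    haveI := hcl
    exact not_isExcCurve_of_relMinimal X hX hmin s hs (C.ι ≫ locFst s X) hr hexc
  · obtain ⟨h0, -⟩ := Groth.L13.ArAdj.component_of_nonneg hXs C hL₁ h
    obtain ⟨c₁, c₂, h1, h2, heq⟩ := Groth.L13.ArAdj.canonical_inter_of_isolated hXs C hL₁ hω h0
    exact absurd heq (ne_of_gt (lt_of_le_of_lt (mul_nonpos_of_nonpos_of_nonneg hgs h2.le)
      (mul_pos (neg_pos.2 hC) h1)))

end Groth.L05.CanonBC
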