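import Groth.Agent.L05.CanonBC.EtaleBase

/-!
# Étale base change of relatively minimal surfaces
-/

set_option autoImplicit false
set_option linter.style.haveILetI false
set_option backward.isDefEq.respectTransparency false
set_option backward.isDefEq.respectTransparency.types false

universe u

open CategoryTheory CategoryTheory.Limits AlgebraicGeometry
open Groth.L05.RelMinUnique

noncomputable section

namespace Groth.L05.CanonBC

variable {R : Type u} [CommRing R] [IsDedekindDomain R]

/-- A contraction sequence to a proper surface is an isomorphism or kills an exceptional curve of a closed fibre. -/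
theorem iso_or_exc {A B : Scheme.{u}} {f : A ⟶ B} (hf : Models.IsContractionSeq f) :
    ∀ (p : A ⟶ Spec (CommRingCat.of R)) (q : B ⟶ Spec (CommRingCat.of R)), IsProper q → f ≫ q = p →
      ¬ IsField R →
      IsIso f ∨ ∃ (E : Scheme.{u}) (ι : E ⟶ A) (t : PrimeSpectrum R), IsClosedImmersion ι ∧ t.asIdeal ≠ ⊥ ∧
        Models.IsExcCurve ι ∧ Set.range ι ⊆ p ⁻¹' {t} := by
  induction hf with
  | iso e => exact fun _ _ _ _ _ => Or.inl inferInstance
  | @step A Z B E ι b r hι hE hb hr ih =>
    intro p q hq hw hR
    haveI := hι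
    haveI := hq
    obtain ⟨-, hbp, z, hz, hzE, -⟩ := hb
    haveI : IsProper r := Groth.L05.PtSeq.seq_isProper hr
    refine Or.inr ⟨E, ι, (r ≫ q) z, hι, ne_bot_of_isClosed hR (r ≫ q) hz, hE, ?_⟩
    rintro _ ⟨a, rfl⟩
    show p (ι a) = (r ≫ q) z
    rw [← hw, Category.assoc, Scheme.Hom.comp_apply, show b (ι a) = z from hzE.subset ⟨a, rfl⟩]

/-- A surface without exceptional curves in closed fibres is relatively minimal. -/
theorem relMinimal_of_no_exc {X : Over (Spec (CommRingCat.of R))} (hX : ArSurf.IsArithSurface R X)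
    (hno : ∀ (t : PrimeSpectrum R), t.asIdeal ≠ ⊥ → ∀ {E : Scheme.{u}} (ι : E ⟶ X.left) [IsClosedImmersion ι],
      Set.range ι ⊆ X.hom ⁻¹' {t} → ¬ Models.IsExcCurve ι) :
    Neron.IsRelMinimalRegularModel R X := by
  refine ⟨hX.1, hX.2.2.2.2, hX.2.2.2.1, fun Y hrY hpY hfY g hgen => ?_⟩
  by_cases hR : IsField R
  · haveI := isIso_genPt_of_isField hR
    haveI := hgen
    haveI : IsIso ((Neron.genericFibre R).map g).left := inferInstanceAs (IsIso ((Over.forget (Spec (CommRingCat.of (FractionRing R)))).map ((Neron.genericFibre R).map g)))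
    have hsq : ((Neron.genericFibre R).map g).left ≫ pullback.fst Y.hom (Neron.genPt R) =
        pullback.fst X.hom (Neron.genPt R) ≫ g.left := pullback.lift_fst _ _ _
    haveI : IsIso (pullback.fst X.hom (Neron.genPt R) ≫ g.left) := hsq ▸ inferInstance
    haveI : IsIso ((Over.forget _).map g) := IsIso.of_isIso_comp_left (pullback.fst X.hom (Neron.genPt R)) g.left
    exact isIso_of_reflects_iso g (Over.forget _)
  have hY := Groth.L05.RelMinExists.isArithSurface_target hX hrY hpY hfY g hgen
  haveI := hfY
  haveI := hX.2.1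
  haveI := hX.2.2.2.1
  haveI := hY.2.1
  haveI : IsProper X.hom := Groth.L05.RelMinExists.isProper_of_projective hX.2.2.2.2
  haveI : IsProper Y.hom := Groth.L05.RelMinExists.isProper_of_projective hpY
  haveI : IsNoetherianRing (CommRingCat.of R) := inferInstanceAs (IsNoetherianRing R)
  haveI : IsLocallyNoetherian X.left := LocallyOfFiniteType.isLocallyNoetherian X.hom
  haveI : IsLocallyNoetherian Y.left := LocallyOfFiniteType.isLocallyNoetherian Y.hom
  haveI : IsNoetherian X.left := { toCompactSpace := QuasiCompact.compactSpace_of_compactSpace X.hom }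
  haveI : IsNoetherian Y.left := { toCompactSpace := QuasiCompact.compactSpace_of_compactSpace Y.hom }
  haveI : IsProper (g.left ≫ Y.hom) := by rw [Over.w g]; infer_instance
  haveI : IsProper g.left := IsProper.of_comp g.left Y.hom
  obtain ⟨_, _, _, V, hV, hgV, _⟩ := Groth.L05.RelMinExists.exists_isIso_open X Y hX.2.2.1.le hrY g hgen
  have hseq := Groth.Agent.S7314.result g.left ⟨V, ⟨_, hgV⟩, hV⟩ hX.1 hX.2.2.1 hrY hY.2.2.1
  rcases iso_or_exc hseq X.hom Y.hom inferInstance (Over.w g) hR with h | ⟨E, ι, t, hι, ht, hE, hv⟩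
  · haveI : IsIso ((Over.forget _).map g) := h
    exact isIso_of_reflects_iso g (Over.forget _)
  · haveI := hι
    exact absurd hE (hno t ht ι hv)

variable {R' : Type u} [CommRing R'] [IsDedekindDomain R'] [Algebra R R']

/-- Relative minimality survives étale surjective base change in non-positive Euler characteristic. -/
theorem relMinimal_etale [Algebra.Etale R R'] (hsurj : Function.Surjective (PrimeSpectrum.comap (algebraMap R R')))
    {X : Over (Spec (CommRingCat.of R))} (hX : ArSurf.IsArithSurface R X) (hmin : Neron.IsRelMinimalRegularModel R X)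
    (hg : genChi X ≤ 0) {X' : Over (Spec (CommRingCat.of R'))} [hint : IsIntegral X'.left] (gX : X'.left ⟶ X.left)
    (hpb : IsPullback gX X'.hom X.hom (Spec.map (CommRingCat.ofHom (algebraMap R R')))) :
    ArSurf.IsArithSurface R' X' ∧ Neron.IsRelMinimalRegularModel R' X' := by
  have hP := IsPropSurf.of_arith hX
  haveI := hP.integral; haveI := hP.proper
  haveI : IsNoetherianRing (CommRingCat.of R) := inferInstanceAs (IsNoetherianRing R)
  haveI : IsNoetherianRing (CommRingCat.of R') := inferInstanceAs (IsNoetherianRing R')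
  haveI : IsProper X'.hom := MorphismProperty.of_isPullback (P := @IsProper) hpb inferInstance
  haveI : IsLocallyNoetherian X.left := LocallyOfFiniteType.isLocallyNoetherian X.hom
  haveI : IsLocallyNoetherian X'.left := LocallyOfFiniteType.isLocallyNoetherian X'.hom
  haveI : Etale gX := MorphismProperty.of_isPullback (P := @Etale) hpb.flip
    ((HasRingHomProperty.Spec_iff (P := @Etale)).mpr (RingHom.etale_algebraMap.mpr ‹_›))
  haveI : Surjective (Spec.map (CommRingCat.ofHom (algebraMap R R'))) := ⟨hsurj⟩
  haveI : Surjective gX := MorphismProperty.of_isPullback (P := @Surjective) hpb.flip inferInstance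
  obtain ⟨hreg, hdim⟩ := etale_regular_dim gX hP.reg hX.2.2.1
  have hX' := arith_bc gX hpb hX hreg hdim
  exact ⟨hX', relMinimal_of_no_exc hX' fun t ht _ ι _ hv =>
    no_exc_of_etale (algebraMap_injective_of_etale_surjective hsurj) hX hmin hg hX' gX hpb t ht ι hv⟩

end Groth.L05.CanonBC
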