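import Groth.Agent.L05.CanonBC.Composition
import Groth.Agent.L05.CanonBC.SmoothOpen
import Groth.Agent.L07.KoszulLCI
import Groth.Agent.L16.ProjSpace.StdSmooth
import Groth.Agent.L07.KoszulMor
import Groth.Agent.L13.Canon.VertDegree
import Groth.Agent.L07.QuasiSmoothSection
import Groth.Agent.L05.Point.UnramFlat
import Groth.Agent.S8656

/-!
# The canonical sheaf on the generic fibre
-/

set_option autoImplicit false
set_option linter.style.haveILetI false
set_option backward.isDefEq.respectTransparency false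
set_option backward.isDefEq.respectTransparency.types false

universe u

open CategoryTheory CategoryTheory.Limits AlgebraicGeometry

noncomputable section

namespace Groth.L05.CanonBC

open Groth.L22.CurveDeg.Det Groth.L22.Adjunction
open Groth.L00.Tensor (tensorIso tensorAssoc tensorComm tensorUnitRight tensorUnitLeft)

/-- An invertible module on a one-point scheme is trivial. -/
theorem nonempty_trivial_of_subsingleton {T : Scheme.{u}} [Subsingleton T] [Nonempty T] {M : T.Modules}
    (hM : PicF.IsInvertible M) : Nonempty (M ≅ Coh.structureModule T) := by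
  obtain ⟨t⟩ := (inferInstance : Nonempty T)
  obtain ⟨U, hx, ⟨i⟩⟩ := hM t
  obtain rfl : U = ⊤ := top_le_iff.1 fun y _ => Subsingleton.elim t y ▸ hx
  haveI : IsIso (⊤ : T.Opens).ι := inferInstanceAs (IsIso T.topIso.hom)
  let j := (⊤ : T.Opens).ι
  exact ⟨((Scheme.Modules.pullbackId T).app M).symm ≪≫ (Scheme.Modules.pullbackCongr (IsIso.inv_hom_id j).symm).app M ≪≫
    ((Scheme.Modules.pullbackComp (inv j) j).app M).symm ≪≫
    (Scheme.Modules.pullback (inv j)).mapIso (((Scheme.Modules.restrictFunctorIsoPullback j).app M).symm ≪≫ i) ≪≫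
    Groth.L29.LocFree.pullbackUnitIso (inv j)⟩

/-- Canonical sheaves can be replaced by isomorphic ones. -/
theorem isCanonical_of_iso {X Y : Scheme.{u}} {f : X ⟶ Y} {ω ω' : X.Modules} (e : ω ≅ ω')
    (h : Canon.IsCanonical f ω) : Canon.IsCanonical f ω' := by
  obtain ⟨Z, i, g, c, n, h₁, h₂, h₃, h₄, h₅, DC, DΩ, h₆, h₇, ⟨r⟩⟩ := h
  exact ⟨Z, i, g, c, n, h₁, h₂, h₃, h₄, h₅, DC, DΩ, h₆, h₇, ⟨tensorIso e.symm (Iso.refl DC) ≪≫ r⟩⟩

/-- A factorisation of constant codimension yields a canonical sheaf. -/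
theorem exists_isCanonical_of_factor {X Y Z : Scheme.{u}} {f : X ⟶ Y} (i : X ⟶ Z) (g : Z ⟶ Y) {c n : ℕ}
    [SmoothOfRelativeDimension n g] [QuasiSeparated g] [QuasiCompact i]
    (hi : RegImm.IsRegularImmersionOfCodim .regular c i) (h : i ≫ g = f) :
    ∃ ω, Canon.IsCanonical f ω := by
  obtain ⟨DC, hDC, hDCi⟩ := exists_isExtPow (Groth.L13.Canon.isFinLocFreeOfRank_conormal i hi)
  obtain ⟨DΩ, hDΩ, -⟩ := exists_isExtPow (Groth.L02.Canon.isFinLocFreeOfRank_omega (f := g) n)
  obtain ⟨DC', -, ⟨e⟩⟩ := Groth.L08.Cube.exists_inverse hDCi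
  exact ⟨CohB1.tensorMod ((Scheme.Modules.pullback i).obj DΩ) DC', Z, i, g, c, n, h, hi, inferInstance, inferInstance,
    inferInstance, DC, DΩ, hDC, hDΩ,
    ⟨tensorAssoc _ _ _ ≪≫ tensorIso (Iso.refl _) (tensorComm _ _ ≪≫ e) ≪≫ tensorUnitRight _⟩⟩

theorem koszul_of_lci {X Y : Scheme.{u}} {f : X ⟶ Y} (hf : Dual3.IsLCIMor f) (x : X) : Synt.IsKoszulAt f x := by
  obtain ⟨⟨U, hU⟩, ⟨V, hV⟩, e, hx, h⟩ := hf x
  exact (Groth.L07.KoszulChart.isLCI_iff f hU hV e).mp h x hx

/-- An irreducible locally complete intersection inside a smooth scheme has a canonical sheaf. -/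
theorem exists_isCanonical_of_lci {X Y Z : Scheme.{u}} [IrreducibleSpace X] [IsLocallyNoetherian Y] {f : X ⟶ Y}
    (hf : ∀ x, Synt.IsKoszulAt f x) (i : X ⟶ Z) (g : Z ⟶ Y) {n : ℕ} [IsImmersion i] [SmoothOfRelativeDimension n g]
    [QuasiSeparated g] (h : i ≫ g = f) : ∃ ω, Canon.IsCanonical f ω := by
  haveI : Smooth g := SmoothOfRelativeDimension.smooth n g
  haveI : IsLocallyNoetherian Z := LocallyOfFiniteType.isLocallyNoetherian g
  have h1 := Groth.Agent.S8656.result f hf g i h
  have h2 := (Groth.Agent.S5003.result i).2 ((Groth.Agent.S8905.result i).2.2 ((Groth.Agent.S8905.result i).2.1 h1))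
  obtain ⟨c, hc⟩ := exists_ofCodim_of_irreducible i h2
  haveI := Groth.L09.Stack.quasiCompact_of_isImmersion i
  exact exists_isCanonical_of_factor (n := n) i g hc h

/-- The canonical sheaf restricts to a canonical sheaf of the generic fibre of a fibration. -/
theorem isCanonical_genericFibre {F : Type u} [Field F] {X B : Scheme.{u}} [IsIntegral X] [IsIntegral B]
    (pX : X ⟶ Spec (CommRingCat.of F)) (pB : B ⟶ Spec (CommRingCat.of F))
    [LocallyOfFiniteType pB] (π : X ⟶ B) (hπ : π ≫ pB = pX)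
    (hπlci : Dual3.IsLCIMor π) (hBlci : Dual3.IsLCIMor pB)
    (ω : X.Modules) (hω : Canon.IsCanonical pX ω) :
    Canon.IsCanonical (pullback.snd π (B.fromSpecStalk (genericPoint B)))
      ((Scheme.Modules.pullback (pullback.fst π (B.fromSpecStalk (genericPoint B)))).obj ω) := by
  haveI : IsNoetherianRing (CommRingCat.of F) := inferInstanceAs (IsNoetherianRing F)
  haveI : IsLocallyNoetherian B := LocallyOfFiniteType.isLocallyNoetherian pB
  -- a canonical sheaf of `π`
  obtain ⟨Z, i, g, c, n, hig, hi, hg, hqi, hqg, -⟩ := id hω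
  haveI := hi.1; haveI := hg; haveI := hqg
  haveI := smoothOfRelativeDimension_isStableUnderBaseChange (n := n)
  let k : X ⟶ pullback g pB := pullback.lift i π (by rw [hig, hπ])
  have hk : k ≫ pullback.fst g pB = i := pullback.lift_fst i π _
  haveI : IsImmersion (k ≫ pullback.fst g pB) := hk ▸ hi.1
  haveI : IsImmersion k := IsImmersion.of_comp k (pullback.fst g pB)
  haveI : SmoothOfRelativeDimension n (pullback.snd g pB) :=
    MorphismProperty.of_isPullback (P := @SmoothOfRelativeDimension n) (IsPullback.of_hasPullback g pB) inferInstance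
  haveI : QuasiSeparated (pullback.snd g pB) :=
    MorphismProperty.of_isPullback (P := @QuasiSeparated) (IsPullback.of_hasPullback g pB) inferInstance
  obtain ⟨ω₁, hω₁⟩ := exists_isCanonical_of_lci (n := n) (koszul_of_lci hπlci) k (pullback.snd g pB)
    (pullback.lift_snd _ _ _)
  -- an affine neighbourhood of the generic point
  let η := genericPoint B
  obtain ⟨_, ⟨B₀, hB₀, rfl⟩, hη, -⟩ := B.isBasis_affineOpens.exists_subset_of_mem_open (Set.mem_univ η) isOpen_univ
  change B.Opens at B₀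
  replace hB₀ : IsAffineOpen B₀ := hB₀
  haveI : IsAffine B₀.toScheme := hB₀
  haveI : Nonempty B₀.toScheme := ⟨⟨η, hη⟩⟩
  haveI : IsIntegral B₀.toScheme := isIntegral_of_isOpenImmersion B₀.ι
  haveI : IrreducibleSpace B₀.toScheme := inferInstance
  obtain ⟨ω₂, hω₂⟩ : ∃ ω₂, Canon.IsCanonical (B₀.ι ≫ pB) ω₂ := by
    obtain ⟨φ, hφ⟩ := Spec.map_surjective (B₀.toScheme.isoSpec.inv ≫ B₀.ι ≫ pB)
    have hft : φ.hom.FiniteType := by
      have : LocallyOfFiniteType (Spec.map φ) := hφ ▸ inferInstance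
      exact (HasRingHomProperty.Spec_iff (P := @LocallyOfFiniteType)).1 this
    obtain ⟨m, α, hα, hαC⟩ := Groth.L07.KoszulChart.exists_presentation φ.hom hft
    let Zm := Spec (CommRingCat.of (MvPolynomial (Fin m) F))
    let gm : Zm ⟶ Spec (CommRingCat.of F) := Spec.map (CommRingCat.ofHom MvPolynomial.C)
    haveI : SmoothOfRelativeDimension m gm := by
      rw [HasRingHomProperty.Spec_iff (P := @SmoothOfRelativeDimension m)]
      refine RingHom.locally_of (RingHom.isStandardSmoothOfRelativeDimension_respectsIso) _ ?_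
      simpa using Groth.L16.isStandardSmoothOfRelativeDimension_C F (Fin m)
    let j : B₀.toScheme ⟶ Zm := B₀.toScheme.isoSpec.hom ≫ Spec.map (CommRingCat.ofHom α)
    haveI : IsClosedImmersion (Spec.map (CommRingCat.ofHom α)) := IsClosedImmersion.spec_of_surjective _ hα
    have hj : j ≫ gm = B₀.ι ≫ pB := by
      rw [Category.assoc, ← Spec.map_comp, ← CommRingCat.ofHom_comp, hαC, CommRingCat.ofHom_hom, hφ,
        Iso.hom_inv_id_assoc]
    refine exists_isCanonical_of_lci (n := m) (fun x => ?_) j gm hj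
    refine Groth.L07.KoszulChart.isKoszulAt_comp _ _ x ?_ (koszul_of_lci hBlci _)
    exact ⟨⊤, B₀.toScheme, (⊤ : B₀.toScheme.Opens).ι, B₀.ι, trivial, inferInstance,
      ⟨inferInstance, Groth.L07.QuasiSmoothSection.regularAt_opensι _⟩, inferInstance, rfl⟩
  -- composition over the neighbourhood
  let X₀ := π ⁻¹ᵁ B₀
  let π₀ := π ∣_ B₀
  haveI : Flat B₀.ι := inferInstance
  have hω₁₀ := isCanonical_baseChange (isPullback_morphismRestrict π B₀).flip (Or.inr inferInstance) hω₁
  have hω₀ := isCanonical_restrict hω X₀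
  have hfac : π₀ ≫ B₀.ι ≫ pB = X₀.ι ≫ pX := by
    rw [← Category.assoc, morphismRestrict_ι, Category.assoc, hπ]
  rw [← hfac] at hω₀
  haveI : IsLocallyNoetherian B₀.toScheme := LocallyOfFiniteType.isLocallyNoetherian B₀.ι
  obtain ⟨e₀⟩ := nonempty_iso_comp hω₁₀ hω₂ hω₀
  -- to the generic point
  let T := Spec (B.presheaf.stalk η)
  let t : T ⟶ B₀.toScheme := IsOpenImmersion.lift B₀.ι (B.fromSpecStalk η) (by
    rw [Scheme.Opens.range_ι, Scheme.range_fromSpecStalk]
    exact fun y hy => hy.mem_open B₀.2 hη)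
  have ht : t ≫ B₀.ι = B.fromSpecStalk η := IsOpenImmersion.lift_fac _ _ _
  let a := pullback.fst π (B.fromSpecStalk η)
  let b := pullback.snd π (B.fromSpecStalk η)
  let a₀ := (isPullback_morphismRestrict π B₀).flip.lift a (b ≫ t) (by
    rw [Category.assoc, ht]; exact pullback.condition)
  have ha₁ : a₀ ≫ X₀.ι = a := IsPullback.lift_fst _ _ _ _
  have ha₂ : a₀ ≫ π₀ = b ≫ t := IsPullback.lift_snd _ _ _ _
  haveI : Flat (B.fromSpecStalk η) := Groth.L05.Point.flat_fromSpecStalk η
  have hω₁η := isCanonical_baseChange (IsPullback.of_hasPullback π (B.fromSpecStalk η)) (Or.inr inferInstance) hω₁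
  haveI : Subsingleton T := by
    have hF : IsField (B.presheaf.stalk η) := (inferInstance : Field B.functionField).toSemifield.toIsField
    letI := hF.toField
    exact inferInstanceAs (Subsingleton (PrimeSpectrum _))
  obtain ⟨v⟩ := nonempty_trivial_of_subsingleton
    (Groth.L18.Ample.isInvertible_pullback t (Groth.L13.Canon.isInvertible_of_isCanonical hω₂))
  let A := Scheme.Modules.pullback a₀
  let e₂ : A.obj ((Scheme.Modules.pullback π₀).obj ω₂) ≅ Coh.structureModule _ :=
    (Scheme.Modules.pullbackComp a₀ π₀).app _ ≪≫ (Scheme.Modules.pullbackCongr ha₂).app _ ≪≫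
      ((Scheme.Modules.pullbackComp b t).app _).symm ≪≫ (Scheme.Modules.pullback b).mapIso v ≪≫
      Groth.L29.LocFree.pullbackUnitIso b
  refine isCanonical_of_iso ?_ hω₁η
  exact (Scheme.Modules.pullbackCongr ha₁.symm).app ω₁ ≪≫ ((Scheme.Modules.pullbackComp a₀ X₀.ι).app ω₁).symm ≪≫
    (tensorUnitRight _).symm ≪≫ tensorIso (Iso.refl _) e₂.symm ≪≫ Groth.L29.DC.PullTensor.pullTensor a₀ _ _ ≪≫
    A.mapIso e₀.symm ≪≫ (Scheme.Modules.pullbackComp a₀ X₀.ι).app ω ≪≫ (Scheme.Modules.pullbackCongr ha₁).app ω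

end Groth.L05.CanonBC
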