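import Groth.Agent.L05.CanonBC.SmoothOpen
import Groth.Agent.L19.OmegaSh.GroupScheme

/-!
# Graphs of morphisms into smooth schemes
-/

set_option autoImplicit false
set_option linter.style.haveILetI false
set_option backward.isDefEq.respectTransparency false
set_option backward.isDefEq.respectTransparency.types false

universe u

open CategoryTheory CategoryTheory.Limits AlgebraicGeometry

noncomputable section

namespace Groth.L05.CanonBC

open Groth.L22.CurveDeg.Det Groth.L22.Adjunction

/-- The graph is a regular immersion whose conormal determinant is the pulled back top differential. -/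
theorem graph_ofCodim_and_extPow {X Y Z : Scheme.{u}} [IsLocallyNoetherian X]
    (f : X ⟶ Y) (g : Y ⟶ Z) (n : ℕ) [SmoothOfRelativeDimension n g] [IsSeparated g]
    (ωY : Y.Modules) (hω : Canon.IsTopDiff g n ωY) :
    RegImm.IsRegularImmersionOfCodim .regular n (pullback.lift (𝟙 X) f (Category.id_comp (f ≫ g))) ∧
      ExtPow.IsExtPow n (Omega.conormal (pullback.lift (𝟙 X) f (Category.id_comp (f ≫ g))))
        ((Scheme.Modules.pullback f).obj ωY) := by
  let q₁ := pullback.fst (f ≫ g) g
  let q₂ := pullback.snd (f ≫ g) g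
  set k := pullback.lift (𝟙 X) f (Category.id_comp (f ≫ g)) with hk
  have hk₁ : k ≫ q₁ = 𝟙 X := pullback.lift_fst _ _ _
  have hk₂ : k ≫ q₂ = f := pullback.lift_snd _ _ _
  haveI := smoothOfRelativeDimension_isStableUnderBaseChange (n := n)
  haveI : SmoothOfRelativeDimension n q₁ :=
    MorphismProperty.of_isPullback (P := @SmoothOfRelativeDimension n) (IsPullback.of_hasPullback (f ≫ g) g).flip inferInstance
  haveI : IsSeparated q₁ :=
    MorphismProperty.of_isPullback (P := @IsSeparated) (IsPullback.of_hasPullback (f ≫ g) g).flip inferInstance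
  haveI : Smooth q₁ := SmoothOfRelativeDimension.smooth n q₁
  haveI : IsLocallyNoetherian (pullback (f ≫ g) g) := LocallyOfFiniteType.isLocallyNoetherian q₁
  haveI : IsImmersion (k ≫ q₁) := hk₁.symm ▸ inferInstance
  haveI : IsImmersion k := IsImmersion.of_comp k q₁
  haveI : QuasiCompact k := Groth.L09.Stack.quasiCompact_of_isImmersion k
  obtain ⟨d, hd⟩ := exists_ofCodim_of_factor (n₁ := 0) (n := n) (𝟙 X) (𝟙 X) (ofCodim_id X) k q₁
    (hk₁.trans (Category.id_comp _).symm)
  have hΩ := Groth.L02.Canon.isFinLocFreeOfRank_omega (f := q₁) n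
  have hΩY := Groth.L02.Canon.isFinLocFreeOfRank_omega (f := g) n
  obtain ⟨θ⟩ := Groth.L19.OmegaSh.nonempty_conormal_iso_pullback k hk₁ (Groth.L19.OmegaSh.isUniversal_dOmega (f := q₁))
  have hCn : FlatMod.IsFinLocFreeOfRank n (Omega.conormal k) := fun x => by
    obtain ⟨U, hU, ⟨e⟩⟩ := Groth.L12.StabLimit.isFinLocFreeOfRank_pullback k hΩ x
    exact ⟨U, hU, ⟨(Scheme.Modules.restrictFunctor U.ι).mapIso θ ≪≫ e⟩⟩
  refine ⟨⟨hd.1, fun z => ?_⟩, ?_⟩
  · have hdn : d = n := by
      obtain ⟨U, hU, ⟨e⟩⟩ := hCn z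
      obtain ⟨V, hV, ⟨e'⟩⟩ := Groth.L13.Canon.isFinLocFreeOfRank_conormal k hd z
      exact Groth.L18.KRRAmple.rank_unique hV hU e' e
    exact hdn ▸ hd.2 z
  · have hu := Groth.L19.OmegaSh.isUniversal_dOmega (f := g)
    have hu' := Groth.L19.OmegaSh.isUniversal_dOmega (f := q₁)
    obtain ⟨b, hb, -⟩ := Groth.L19.OmegaSh.existsUnique_diffCompat q₂ (f ≫ g)
      (IsPullback.of_hasPullback (f ≫ g) g).w hu (OmegaSh.dOmega q₁)
    haveI := Groth.Agent.S9386.result g (f ≫ g) q₂ q₁ (IsPullback.of_hasPullback (f ≫ g) g).flip _ _ hu _ _ hu' b hb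
    obtain ⟨D, hD, -⟩ := exists_isExtPow hCn
    obtain ⟨o⟩ := nonempty_det_pullback f hΩY hω hCn hD
      ((Scheme.Modules.pullbackCongr hk₂.symm).app _ ≪≫ ((Scheme.Modules.pullbackComp k q₂).app _).symm ≪≫
        (Scheme.Modules.pullback k).mapIso (asIso b) ≪≫ θ.symm)
    exact Groth.L12.ExtSh.isExtPow_of_iso o.symm hD

end Groth.L05.CanonBC
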