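import Groth.Agent.L07.TransImm
import Groth.Agent.L03.RegImmFlat
import Groth.Agent.L14.RegImmStalk.Stalk
import Groth.Agent.L07.RegImmAt

/-!
# Base change of regular immersions of constant codimension into smooth schemes
-/

set_option autoImplicit false
set_option linter.style.haveILetI false
set_option maxSynthPendingDepth 3
set_option backward.isDefEq.respectTransparency false
set_option backward.isDefEq.respectTransparency.types false

universe u

open CategoryTheory CategoryTheory.Limits AlgebraicGeometry TensorProduct RingTheory.Sequence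

noncomputable section

namespace Groth.L05.CanonBC

variable {Z X S X' S' Z' : Scheme.{u}} {f : X ⟶ S} {f' : X' ⟶ S'} {g' : X' ⟶ X} {g : S' ⟶ S}
  {i : Z ⟶ X} {i' : Z' ⟶ X'} {gZ : Z' ⟶ Z} {c : ℕ}

/-- Codimension `c` survives a base change in whose charts the sequences stay weakly regular. -/
theorem ofCodim_baseChange_of_charts (hc : IsPullback g' f' f g) (hsq : IsPullback gZ i' i g') (hi : IsImmersion i)
    (h : ∀ z : Z, ∃ (U : X.Opens) (_ : IsAffineOpen U) (V : S.Opens) (_ : IsAffineOpen V) (e : U ≤ f ⁻¹ᵁ V),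
      i z ∈ U ∧ IsClosedImmersion (i ∣_ U) ∧ ∃ rs : List Γ(X, U), rs.length = c ∧
        RingHom.ker (i.app U).hom = Ideal.ofList rs ∧
        ∀ (V' : S'.Opens) (_ : IsAffineOpen V') (e' : V' ≤ g ⁻¹ᵁ V),
          letI := (f.appLE V U e).hom.toAlgebra
          letI := (g.appLE V V' e').hom.toAlgebra
          IsWeaklyRegular (Γ(S', V') ⊗[Γ(S, V)] Γ(X, U))
            (rs.map fun b => (1 : Γ(S', V')) ⊗ₜ[Γ(S, V)] b)) :
    RegImm.IsRegularImmersionOfCodim .regular c i' := by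
  refine ⟨MorphismProperty.of_isPullback hsq hi, fun z' => ?_⟩
  obtain ⟨U, hU, V, hV, e, hz, hcl, rs, hlen, hker, hseq⟩ := h (gZ z')
  have hgz : g' (i' z') = i (gZ z') := (congrArg (fun m : Z' ⟶ X => m z') hsq.w).symm
  have hsV : f' (i' z') ∈ g ⁻¹ᵁ V := by
    show g (f' (i' z')) ∈ V
    rw [show g (f' (i' z')) = f (g' (i' z')) from (congrArg (fun m : X' ⟶ S => m (i' z')) hc.w).symm, hgz]
    exact e hz
  obtain ⟨_, ⟨V', hV', rfl⟩, hzV', e'⟩ := S'.isBasis_affineOpens.exists_subset_of_mem_open hsV (g ⁻¹ᵁ V).2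
  change S'.Opens at V'
  replace hV' : IsAffineOpen V' := hV'
  letI := (f.appLE V U e).hom.toAlgebra
  letI := (g.appLE V V' e').hom.toAlgebra
  obtain ⟨hU', ρ, hcl', hk, hρ⟩ := Groth.L07.TransImm.exists_baseChange_chart hc hsq hU hV e hcl hV' e'
  have hmem : i' z' ∈ g' ⁻¹ᵁ U ⊓ f' ⁻¹ᵁ V' := ⟨by show g' (i' z') ∈ U; rw [hgz]; exact hz, hzV'⟩
  have hlist : (rs.map fun b => (1 : Γ(S', V')) ⊗ₜ[Γ(S, V)] b).map ρ.toRingHom =
      rs.map (g'.appLE U (g' ⁻¹ᵁ U ⊓ f' ⁻¹ᵁ V') inf_le_left).hom := by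
    rw [List.map_map]
    exact List.map_congr_left fun b _ => hρ b
  have hk' : RingHom.ker (i'.app (g' ⁻¹ᵁ U ⊓ f' ⁻¹ᵁ V')).hom =
      Ideal.ofList ((rs.map fun b => (1 : Γ(S', V')) ⊗ₜ[Γ(S, V)] b).map ρ.toRingHom) := by
    rw [hk, hker, Ideal.map_ofList, hlist]
  have hne : Ideal.ofList ((rs.map fun b => (1 : Γ(S', V')) ⊗ₜ[Γ(S, V)] b).map ρ.toRingHom) ≠ ⊤ := by
    rw [← hk']
    haveI : Nonempty (i' ⁻¹ᵁ (g' ⁻¹ᵁ U ⊓ f' ⁻¹ᵁ V')).toScheme := ⟨⟨z', hmem⟩⟩
    haveI := Scheme.component_nontrivial Z' (i' ⁻¹ᵁ (g' ⁻¹ᵁ U ⊓ f' ⁻¹ᵁ V'))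
    exact RingHom.ker_ne_top _
  refine ⟨⟨_, hU'⟩, hmem, hcl', _, ?_, Groth.L03.RegImmFlat.seq_map _ (RingHom.Flat.of_bijective ρ.bijective)
    RegImm.Kind.regular _ ⟨hseq V' hV' e', ?_⟩ hne, hk'⟩
  · rw [List.length_map, List.length_map, hlen]
  · rw [smul_eq_mul, Ideal.mul_top]
    intro h1
    exact hne (by rw [← Ideal.map_ofList, ← h1, Ideal.map_top])

/-- A chart of a regular immersion of codimension `c` over an affine open of the base. -/
theorem exists_codimChart (f : X ⟶ S) (hi : RegImm.IsRegularImmersionOfCodim .regular c i) (z : Z) :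
    ∃ (U : X.Opens) (V : S.Opens) (_ : IsAffineOpen U) (_ : IsAffineOpen V) (_ : U ≤ f ⁻¹ᵁ V),
      i z ∈ U ∧ IsClosedImmersion (i ∣_ U) ∧ ∃ rs : List Γ(X, U), rs.length = c ∧
        RegImm.Kind.regular.Seq Γ(X, U) rs ∧ RingHom.ker (i.app U).hom = Ideal.ofList rs := by
  haveI := hi.1
  obtain ⟨⟨W, hW⟩, hzW, hclW, rs, hlen, hrs, hker⟩ := hi.2 z
  obtain ⟨U, V, hU, hV, e, hle, hzU, hcl⟩ := Groth.L07.TransImm.exists_chart f i z W hzW
  obtain ⟨-, hk⟩ := Groth.L07.RegImmAt.ker_restrict hW hU hle hclW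
  let ρ := (X.presheaf.map (homOfLE hle).op).hom
  have hρ : ρ.Flat := by
    have := Flat.flat_appLE (𝟙 X) hW hU hle
    simpa [Scheme.Hom.appLE] using this
  have hker' : RingHom.ker (i.app U).hom = Ideal.ofList (rs.map ρ) := by
    rw [hk, hker, Ideal.map_ofList]
  refine ⟨U, V, hU, hV, e, hzU, hcl, rs.map ρ, by rw [List.length_map, hlen],
    Groth.L03.RegImmFlat.seq_map ρ hρ _ rs hrs ?_, hker'⟩
  haveI : Nonempty (i ⁻¹ᵁ U).toScheme := ⟨⟨z, hzU⟩⟩
  haveI := Scheme.component_nontrivial Z (i ⁻¹ᵁ U)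
  exact fun h => RingHom.ker_ne_top _ (hker'.trans h)

theorem isWeaklyRegular_tensor_flat {A A' B : Type u} [CommRing A] [CommRing A'] [CommRing B] [Algebra A A']
    [Algebra A B] [Module.Flat A A'] {rs : List B} (h : IsWeaklyRegular B rs) :
    IsWeaklyRegular (A' ⊗[A] B) (rs.map fun b => (1 : A') ⊗ₜ[A] b) := by
  letI := (Algebra.TensorProduct.includeRight (R := A) (A := A') (B := B)).toRingHom.toAlgebra
  haveI : IsScalarTower A B (A' ⊗[A] B) := IsScalarTower.of_algebraMap_eq fun a =>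
    ((Algebra.TensorProduct.includeRight (R := A) (A := A') (B := B)).commutes a).symm
  haveI : Algebra.IsPushout A B A' (A' ⊗[A] B) :=
    Algebra.IsPushout.symm (inferInstance : Algebra.IsPushout A A' B (A' ⊗[A] B))
  haveI : Module.Flat B (A' ⊗[A] B) :=
    Module.Flat.isBaseChange A B A' (A' ⊗[A] B)
      (Algebra.IsPushout.out (R := A) (S := B) (R' := A') (S' := A' ⊗[A] B))
  exact IsWeaklyRegular.of_flat (S := A' ⊗[A] B) h

/-- Regular immersions of codimension `c` into a scheme over `S` survive flat base change of `S`. -/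
theorem ofCodim_baseChange_flat (hc : IsPullback g' f' f g) (hsq : IsPullback gZ i' i g') [Flat g]
    (hi : RegImm.IsRegularImmersionOfCodim .regular c i) : RegImm.IsRegularImmersionOfCodim .regular c i' := by
  refine ofCodim_baseChange_of_charts hc hsq hi.1 fun z => ?_
  obtain ⟨U, V, hU, hV, e, hz, hcl, rs, hlen, hrs, hker⟩ := exists_codimChart f hi z
  refine ⟨U, hU, V, hV, e, hz, hcl, rs, hlen, hker, fun V' hV' e' => ?_⟩
  letI := (f.appLE V U e).hom.toAlgebra
  letI := (g.appLE V V' e').hom.toAlgebra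
  haveI : Module.Flat Γ(S, V) Γ(S', V') := Flat.flat_appLE g hV hV' e'
  exact isWeaklyRegular_tensor_flat hrs.toIsWeaklyRegular

/-- A regular immersion of codimension `c`, flat over `S`, into a flat scheme over `S` survives any base change. -/
theorem ofCodim_baseChange_rel (hc : IsPullback g' f' f g) (hsq : IsPullback gZ i' i g') [Flat f]
    [LocallyOfFinitePresentation f] [Flat (i ≫ f)] [IsLocallyNoetherian X]
    (hi : RegImm.IsRegularImmersionOfCodim .regular c i) : RegImm.IsRegularImmersionOfCodim .regular c i' := by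
  refine ofCodim_baseChange_of_charts hc hsq hi.1 fun z => ?_
  haveI := hi.1
  obtain ⟨U, V, hU, hV, e, hzU, hcl, rs, hlen, hrs, hker⟩ := exists_codimChart f hi z
  letI := (f.appLE V U e).hom.toAlgebra
  haveI : Algebra.FinitePresentation Γ(S, V) Γ(X, U) := f.finitePresentation_appLE hV hU e
  haveI : IsNoetherianRing Γ(X, U) := IsLocallyNoetherian.component_noetherian ⟨U, hU⟩
  let q := (hU.primeIdealOf ⟨i z, hzU⟩).asIdeal
  have hflat : Module.Flat Γ(S, V) (LocalizedModule q.primeCompl Γ(X, U)) :=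
    (Groth.L20.flat_stalkMap_iff f hV hU e hzU).1 (Flat.stalkMap f (i z))
  have hquot : Module.Flat Γ(S, V) (Γ(X, U) ⧸ Ideal.ofList rs) := by
    have := Groth.L07.TransImm.flat_quot_ker f i hU hV e hcl
    rwa [hker] at this
  have hl : ∀ b ∈ rs, b ∈ q := fun b hb =>
    Groth.L07.RegImmDescent.ker_le_primeIdealOf i hU z hzU (hker.ge (Ideal.subset_span hb))
  have hq : CAlgX.IsQuasiRegular rs.get := Groth.L14.RegImmStalk.kind_of_isRegular RegImm.Kind.quasi hrs
  obtain ⟨a, ha, h⟩ := Groth.L07.TransSeq.exists_away_transReg q rs hl hflat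
    (Groth.L07.TransSeq.fibre_isWeaklyRegular q rs hl hq hquot)
  have hmem : i z ∈ X.basicOpen a := (Groth.L07.RegImmDescent.mem_basicOpen_iff_prime hU hzU a).2 ha
  obtain ⟨hc', hk⟩ := Groth.L07.RegImmAt.ker_restrict hU (hU.basicOpen a) (X.basicOpen_le a) hcl
  letI := hU.isLocalization_basicOpen a
  have e₁ : X.basicOpen a ≤ f ⁻¹ᵁ V := (X.basicOpen_le a).trans e
  letI : Algebra Γ(S, V) Γ(X, X.basicOpen a) := (f.appLE V (X.basicOpen a) e₁).hom.toAlgebra
  haveI : IsScalarTower Γ(S, V) Γ(X, U) Γ(X, X.basicOpen a) := IsScalarTower.of_algebraMap_eq' (by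
    show (f.appLE V (X.basicOpen a) e₁).hom =
      (X.presheaf.map (homOfLE (X.basicOpen_le a)).op).hom.comp (f.appLE V U e).hom
    rw [← CommRingCat.hom_comp, Scheme.Hom.appLE_map])
  have htr := h Γ(X, X.basicOpen a) a inferInstance dvd_rfl
  refine ⟨_, hU.basicOpen a, V, hV, e₁, hmem, hc', rs.map (algebraMap Γ(X, U) Γ(X, X.basicOpen a)),
    by rw [List.length_map, hlen], ?_, fun V' hV' e' => ?_⟩
  · rw [hk, hker, Ideal.map_ofList]; rfl
  letI := (g.appLE V V' e').hom.toAlgebra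
  exact (Groth.L07.TransSeq.transReg_baseChange htr Γ(S', V')).1

end Groth.L05.CanonBC
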