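import Groth.Agent.L05.CanonBC.Main
import Groth.Agent.L05.CanonBC.Degree
import Groth.Agent.L13.Canon.VertDegree
import Groth.Agent.L05.PtSeq.DomData
import Groth.Agent.L00.DimClosedSurj

/-!
# Negativity of the canonical sheaf under extensions of discrete valuation rings
-/

set_option autoImplicit false
set_option linter.style.haveILetI false
set_option backward.isDefEq.respectTransparency false
set_option backward.isDefEq.respectTransparency.types false

universe u

open CategoryTheory CategoryTheory.Limits AlgebraicGeometry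
open Groth.L00.Tensor (tensorIso tensorAssoc tensorComm tensorUnitRight)

noncomputable section

namespace Groth.L05.CanonBC

variable {R : Type u} [CommRing R] [IsDomain R] [IsDiscreteValuationRing R]

/-- An arithmetic surface over a discrete valuation ring has a canonical sheaf. -/
theorem exists_isCanonical {X : Over (Spec (CommRingCat.of R))} (hX : ArSurf.IsArithSurface R X) :
    ∃ ω : X.left.Modules, Canon.IsCanonical X.hom ω := by
  obtain ⟨N, j, hjcl, hj⟩ := Groth.L13.Canon.exists_embedding hX
  haveI := hjcl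
  haveI := hX.2.1
  haveI : IsNoetherianRing (CommRingCat.of R) := inferInstanceAs (IsNoetherianRing R)
  haveI : IsLocallyNoetherian (CohB1.ProjSpace N R) :=
    LocallyOfFiniteType.isLocallyNoetherian (CohB1.ProjSpace.toSpec N R)
  obtain ⟨c, hjc, -⟩ := Groth.L13.Canon.exists_codim j (Groth.L13.Canon.regular_projSpace N) hX.1
  have hCj := Groth.L13.Canon.isFinLocFreeOfRank_conormal j hjc
  have hΩ := Groth.L02.Canon.isFinLocFreeOfRank_omega (f := CohB1.ProjSpace.toSpec N R) N
  obtain ⟨Dj, hDj, hDji⟩ := Groth.L22.Adjunction.exists_isExtPow hCj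
  obtain ⟨DΩ, hDΩ, -⟩ := Groth.L22.Adjunction.exists_isExtPow hΩ
  obtain ⟨Dj', -, ⟨n⟩⟩ := Groth.L08.Cube.exists_inverse hDji
  exact ⟨CohB1.tensorMod ((Scheme.Modules.pullback j).obj DΩ) Dj', _, j, CohB1.ProjSpace.toSpec N R, c, N, hj, hjc,
    inferInstance, inferInstance, inferInstance, Dj, DΩ, hDj, hDΩ,
    ⟨tensorAssoc _ _ _ ≪≫ tensorIso (Iso.refl _) (tensorComm _ _ ≪≫ n) ≪≫ tensorUnitRight _⟩⟩

variable {R' : Type u} [CommRing R'] [IsDomain R'] [IsDiscreteValuationRing R'] [Algebra R R']
  [IsLocalHom (algebraMap R R')]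

local notation "κ" => IsLocalRing.ResidueField R
local notation "κ'" => IsLocalRing.ResidueField R'

theorem spec_residue_comm :
    Spec.map (CommRingCat.ofHom (algebraMap κ κ')) ≫ Spec.map (CommRingCat.ofHom (IsLocalRing.residue R)) =
      Spec.map (CommRingCat.ofHom (IsLocalRing.residue R')) ≫ Spec.map (CommRingCat.ofHom (algebraMap R R')) := by
  rw [← Spec.map_comp, ← Spec.map_comp]
  rfl

variable {X : Over (Spec (CommRingCat.of R))} {X' : Over (Spec (CommRingCat.of R'))} (gX : X'.left ⟶ X.left)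
  (w : gX ≫ X.hom = X'.hom ≫ Spec.map (CommRingCat.ofHom (algebraMap R R')))

include w in
/-- A component on which a pulled back module is negative lies over one with the same property. -/
theorem exists_neg_image [Module.Finite κ κ'] [IsAffineHom gX] [IsProper X.hom] [IsProper X'.hom]
    {ω : X.left.Modules} (hω : PicF.IsInvertible ω) (C' : ArSurf.VertComp R' X')
    (hneg : ArSurf.inter R' X' ((Scheme.Modules.pullback gX).obj ω) C' < 0) :
    ∃ C : ArSurf.VertComp R X, ArSurf.inter R X ω C < 0 := by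
  let pt := Spec.map (CommRingCat.ofHom (IsLocalRing.residue R))
  let pt' := Spec.map (CommRingCat.ofHom (IsLocalRing.residue R'))
  let σ := Spec.map (CommRingCat.ofHom (algebraMap κ κ'))
  haveI : IsClosedImmersion pt := IsClosedImmersion.spec_of_surjective _ IsLocalRing.residue_surjective
  haveI : IsClosedImmersion pt' := IsClosedImmersion.spec_of_surjective _ IsLocalRing.residue_surjective
  haveI : IsFinite σ := (IsFinite.SpecMap_iff _).mpr (RingHom.finite_algebraMap.mpr inferInstance)
  haveI : IsProper C'.curve.hom := by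
    haveI : IsProper (C'.curve.hom ≫ pt') := C'.w ▸ inferInstance
    exact IsProper.of_comp _ pt'
  let m := C'.ι ≫ gX
  have hm : m ≫ X.hom = (C'.curve.hom ≫ σ) ≫ pt := by
    rw [Category.assoc, Category.assoc, spec_residue_comm, w, ← Category.assoc, C'.w, Category.assoc]
  haveI : IsProper (m ≫ X.hom) := by rw [hm]; infer_instance
  haveI : IsProper m := IsProper.of_comp m X.hom
  haveI : IsFinite m := (IsFinite.iff_isProper_and_isAffineHom).2 ⟨inferInstance, inferInstance⟩
  obtain ⟨Z, ιZ, hZ, hιZ, hr, hgen⟩ := Groth.L05.PtSeq.exists_closure_subscheme (m (genericPoint C'.curve.left))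
  haveI := hZ
  haveI := hιZ
  obtain ⟨g, hg⟩ := Groth.L05.PtSeq.exists_lift_closed ιZ m (by
    rintro _ ⟨a, rfl⟩
    rw [hr]
    exact ((genericPoint_specializes a).map m.continuous).mem_closure)
  have hgξ : g (genericPoint C'.curve.left) = genericPoint Z := by
    refine ιZ.isClosedEmbedding.injective ?_
    rw [hgen]
    exact congr($hg (genericPoint C'.curve.left))
  haveI : IsFinite (g ≫ ιZ) := hg.symm ▸ inferInstance
  haveI : IsFinite g := IsFinite.of_comp g ιZ
  haveI : Surjective g := ⟨fun z => by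
    have hc : IsClosed (Set.range g) := g.isClosedMap.isClosed_range
    have hz : z ∈ closure ({genericPoint Z} : Set Z) := (genericPoint_specializes z).mem_closure
    exact (hc.closure_subset_iff.2 (Set.singleton_subset_iff.2 ⟨_, hgξ⟩)) hz⟩
  have hdim : topologicalKrullDim Z = 1 := by
    rw [← Groth.L00.topologicalKrullDim_eq_of_isClosedMap g.continuous g.isClosedMap g.surjective
      fun _ _ h e => Groth.L19.eq_of_specializes_of_isIntegralHom g h e]
    exact C'.dim_eq
  obtain ⟨l, hl⟩ := Groth.L05.PtSeq.exists_lift_closed pt (ιZ ≫ X.hom) (by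
    rintro _ ⟨z, rfl⟩
    obtain ⟨a, rfl⟩ := g.surjective z
    exact ⟨(C'.curve.hom ≫ σ) a, (congr($hm a)).symm.trans (congr(X.hom ($hg.symm a)))⟩)
  let C : ArSurf.VertComp R X := ⟨Over.mk l, ιZ, hιZ, hZ, hdim, hl.symm⟩
  refine ⟨C, ?_⟩
  haveI : IsProper l := by
    haveI : IsProper (l ≫ pt) := hl ▸ inferInstance
    exact IsProper.of_comp l pt
  have hgl : g ≫ l = C'.curve.hom ≫ σ := by
    rw [← cancel_mono pt, Category.assoc, hl, ← hm, reassoc_of% hg]
  letI : Z.Over (Spec (CommRingCat.of κ)) := ⟨l⟩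
  letI : C'.curve.left.Over (Spec (CommRingCat.of κ)) := ⟨C'.curve.hom ≫ σ⟩
  haveI : IsProper (Z ↘ Spec (CommRingCat.of κ)) := ‹IsProper l›
  haveI : IsProper (C'.curve.left ↘ Spec (CommRingCat.of κ)) := inferInstanceAs (IsProper (C'.curve.hom ≫ σ))
  let e : (Scheme.Modules.pullback g).obj ((Scheme.Modules.pullback ιZ).obj ω) ≅
      (Scheme.Modules.pullback C'.ι).obj ((Scheme.Modules.pullback gX).obj ω) :=
    (Scheme.Modules.pullbackComp g ιZ).app ω ≪≫ (Scheme.Modules.pullbackCongr hg).app ω ≪≫
      ((Scheme.Modules.pullbackComp C'.ι gX).app ω).symm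
  refine curveDeg_neg_of_pullback κ hdim C'.dim_eq g hgl hgξ (Groth.L18.Ample.isInvertible_pullback ιZ hω) ?_
  rw [Groth.L05.InterPair.curveDeg_congr κ C'.dim_eq e]
  refine (curveDeg_tower κ κ' C'.curve.hom _).trans_lt ?_
  exact mul_neg_of_pos_of_neg (by exact_mod_cast Module.finrank_pos (R := κ) (M := κ')) hneg

include w in
/-- With trivial residue extension and cartesian special fibres, negative components lift. -/
theorem exists_neg_lift (sq : IsPullback gX X'.hom X.hom (Spec.map (CommRingCat.ofHom (algebraMap R R'))))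
    (hbij : Function.Bijective (algebraMap κ κ')) [IsProper X'.hom]
    {ω : X.left.Modules} (C : ArSurf.VertComp R X) (hneg : ArSurf.inter R X ω C < 0) :
    ∃ C' : ArSurf.VertComp R' X', ArSurf.inter R' X' ((Scheme.Modules.pullback gX).obj ω) C' < 0 := by
  let pt := Spec.map (CommRingCat.ofHom (IsLocalRing.residue R))
  let pt' := Spec.map (CommRingCat.ofHom (IsLocalRing.residue R'))
  let σ := Spec.map (CommRingCat.ofHom (algebraMap κ κ'))
  haveI : IsClosedImmersion pt' := IsClosedImmersion.spec_of_surjective _ IsLocalRing.residue_surjective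
  haveI : IsIso (CommRingCat.ofHom (algebraMap κ κ')) := (ConcreteCategory.isIso_iff_bijective _).2 hbij
  haveI : IsIso σ := inferInstanceAs (IsIso (Spec.map _))
  let h' := C.curve.hom ≫ inv σ
  have hw : C.ι ≫ X.hom = (h' ≫ pt') ≫ Spec.map (CommRingCat.ofHom (algebraMap R R')) := by
    rw [Category.assoc, ← spec_residue_comm, Category.assoc, IsIso.inv_hom_id_assoc, C.w]
  let ι' := sq.lift C.ι (h' ≫ pt') hw
  have h1 : ι' ≫ gX = C.ι := sq.lift_fst _ _ _
  have h2 : ι' ≫ X'.hom = h' ≫ pt' := sq.lift_snd _ _ _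
  haveI : IsSeparated gX :=
    MorphismProperty.of_isPullback (P := @IsSeparated) sq.flip inferInstance
  haveI : IsClosedImmersion (ι' ≫ gX) := h1.symm ▸ C.isClosedImmersion
  haveI : IsClosedImmersion ι' := IsClosedImmersion.of_comp ι' gX
  haveI := C.isIntegral
  let C' : ArSurf.VertComp R' X' := ⟨Over.mk (Y := C.curve.left) h', ι', ‹IsClosedImmersion ι'›, C.isIntegral, C.dim_eq, h2⟩
  refine ⟨C', ?_⟩
  haveI : IsProper h' := by
    haveI : IsProper (h' ≫ pt') := h2 ▸ inferInstance
    exact IsProper.of_comp h' pt'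
  letI : C.curve.left.Over (Spec (CommRingCat.of κ')) := ⟨h'⟩
  let e : (Scheme.Modules.pullback ι').obj ((Scheme.Modules.pullback gX).obj ω) ≅ (Scheme.Modules.pullback C.ι).obj ω :=
    (Scheme.Modules.pullbackComp ι' gX).app ω ≪≫ (Scheme.Modules.pullbackCongr h1).app ω
  change ArSurf.curveDeg κ' C.curve.left _ < 0
  haveI : IsProper (C.curve.left ↘ Spec (CommRingCat.of κ')) := ‹IsProper h'›
  rw [Groth.L05.InterPair.curveDeg_congr κ' C.dim_eq e]
  have ht := curveDeg_tower κ κ' h' ((Scheme.Modules.pullback C.ι).obj ω)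
  have hh : h' ≫ σ = C.curve.hom := by rw [Category.assoc, IsIso.inv_hom_id, Category.comp_id]
  rw [hh] at ht
  by_contra h0
  exact absurd hneg (not_lt.2 ((mul_nonneg (Int.natCast_nonneg _) (not_lt.1 h0)).trans_eq ht.symm))

end Groth.L05.CanonBC
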